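import Groth.Agent.Lib.RG57.RelS2.Point
import Groth.Agent.Lib.Henselian.Permanence
import Groth.Agent.H24.ValFlat.Complete

/-!
# Infinitesimal and valuative criteria for the relative `(S₂)` condition
-/

set_option autoImplicit false
set_option linter.style.haveILetI false
set_option maxHeartbeats 400000

universe u

open IsLocalRing LocCoh
open scoped TensorProduct
open Groth.Agent.Lib

attribute [local instance] Algebra.TensorProduct.rightAlgebra

namespace Groth.Agent.Lib.RG57.RelS2.Criteria

section Cokernel

variable {R C : Type u} [CommRing R] [IsNoetherianRing R] [IsLocalRing R] [CommRing C] [IsNoetherianRing C]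
  [Algebra R C] [Module.Flat R C] [Algebra.FiniteType R C]

/-- The relative `(S₂)` condition over a local algebra gives flatness of the cokernel there. -/
theorem flatPts_of_hasSk (F : Type u) [AddCommGroup F] [Module C F] [Module.Finite C F] (J : Ideal C) {k l : ℕ}
    (g : F →ₗ[C] (Fin k → C)) (h : (Fin k → C) →ₗ[C] (Fin l → C)) (hg : Function.Injective g)
    (hgh : Function.Exact g h)
    (hGfree : ∀ q : PrimeSpectrum C, ¬ J ≤ q.asIdeal → Module.Free (Localization.AtPrime q.asIdeal)
      (LocalizedModule q.asIdeal.primeCompl ((Fin l → C) ⧸ LinearMap.range h)))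
    (n : Ideal C) [n.IsPrime] (hn : n.comap (algebraMap R C) = maximalIdeal R)
    (h0 : 2 ≤ idealDepth (J.map (algebraMap C (Localization.AtPrime n)))
      (Localization.AtPrime n ⧸ ((maximalIdeal R).map (algebraMap R C)).map (algebraMap C (Localization.AtPrime n))))
    (A' : Type u) [CommRing A'] [IsNoetherianRing A'] [IsLocalRing A'] [Algebra R A'] [IsLocalHom (algebraMap R A')]
    (hA' : ∀ (C' : Type u) [CommRing C'] [IsNoetherianRing C'] [Algebra C C'] [Algebra A' C'] [Algebra R C']
        [IsScalarTower R C C'] [IsScalarTower R A' C'], Algebra.IsPushout R C A' C' →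
        ∀ q' : PrimeSpectrum C', q'.asIdeal.comap (algebraMap C C') = n →
          q'.asIdeal.comap (algebraMap A' C') = maximalIdeal A' →
          LocCoh.HasSk 2 (EGA4.FibLocRing A' C' q'.asIdeal)
            (EGA4.FibLocMod A' C' q'.asIdeal (Module.Dual C' (Module.Dual C' (C' ⊗[C] F))))) :
    FlatPts.FlatPts R n ((Fin l → C) ⧸ LinearMap.range h) A' := by
  rw [FlatPts.iff_canonical]
  intro Q _ hQn hQm
  haveI : IsNoetherianRing (A' ⊗[R] C) := Algebra.FiniteType.isNoetherianRing A' _
  exact Point.coker_of_hasSk (R' := A') (C' := A' ⊗[R] C) F J g h hg hgh hGfree n hn h0 Q hQn hQm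
    (hA' (A' ⊗[R] C) inferInstance ⟨Q, inferInstance⟩ hQn hQm)

end Cokernel

section Test

variable {R C : Type u} [CommRing R] [IsNoetherianRing R] [IsLocalRing R] [CommRing C]
  [Algebra R C] [Algebra.FiniteType R C] (G : Type u) [AddCommGroup G] [Module C G] [Module R G]
  [IsScalarTower R C G] [Module.Finite C G] (n : Ideal C) [n.IsPrime] (hn : n.comap (algebraMap R C) = maximalIdeal R)

include hn in
/-- An ideal of the henselization that vanishes exactly when the base change is flat over the point. -/
theorem exists_test : ∃ I : Ideal (Henselian.Henselization.Henselization R),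
    (∀ (V : Type u) [CommRing V] [IsLocalRing V] [Algebra R V] [Algebra (Henselian.Henselization.Henselization R) V]
      [IsScalarTower R (Henselian.Henselization.Henselization R) V]
      [IsLocalHom (algebraMap (Henselian.Henselization.Henselization R) V)], FlatPts.FlatPts R n G V →
        I.map (algebraMap (Henselian.Henselization.Henselization R) V) = ⊥) ∧
    (I = ⊥ → Module.Flat R (LocalizedModule n.primeCompl G)) := by
  let H := Henselian.Henselization.Henselization R
  haveI : Module.FaithfullyFlat R H := Henselian.Henselization.faithfullyFlat R H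
  let CH := H ⊗[R] C
  let GH := CH ⊗[C] G
  obtain ⟨qH, hqH, hqn, hqm⟩ := FlatPts.exists_point (R := R) (S := C) (q := n) (A' := H) (by
    rw [hn]
    exact ((maximalIdeal.isMaximal R).eq_of_le (Ideal.IsPrime.ne_top inferInstance)
      fun r hr => map_nonunit (algebraMap R H) r hr))
  haveI := hqH
  haveI : qH.LiesOver (maximalIdeal H) := ⟨hqm.symm⟩
  obtain ⟨I, hI, -⟩ := FlatPtsInduct.exists_ideal (A := H) GH qH
  refine ⟨I, fun V _ _ _ _ _ _ hV => (hI V).1 ?_, fun h0 => ?_⟩
  · intro T _ _ _ _ _ _ hpo X _ _ _ _ _ _ f hf Q _ hQq hQm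
    haveI := hpo
    letI : Algebra C T := ((algebraMap CH T).comp (algebraMap C CH)).toAlgebra
    letI : Algebra R T := ((algebraMap V T).comp (algebraMap R V)).toAlgebra
    haveI : IsScalarTower C CH T := .of_algebraMap_eq' rfl
    haveI : IsScalarTower R V T := .of_algebraMap_eq' rfl
    haveI : IsScalarTower R H T := .of_algebraMap_eq fun r => by
      rw [IsScalarTower.algebraMap_apply H V T, ← IsScalarTower.algebraMap_apply R H V,
        ← IsScalarTower.algebraMap_apply]
    haveI : IsScalarTower R CH T := .of_algebraMap_eq fun r => by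
      rw [IsScalarTower.algebraMap_apply R H T, IsScalarTower.algebraMap_apply R H CH,
        ← IsScalarTower.algebraMap_apply H CH T]
    haveI : IsScalarTower R C T := .of_algebraMap_eq fun r => by
      rw [IsScalarTower.algebraMap_apply R CH T, IsScalarTower.algebraMap_apply R C CH]
      rfl
    haveI : Algebra.IsPushout R H C CH := inferInstance
    haveI : Algebra.IsPushout R V C T := (Algebra.IsPushout.comp_iff R H C CH).2 inferInstance
    letI : Module C X := Module.compHom X (algebraMap C T)
    haveI : IsScalarTower C T X := .of_algebraMap_smul fun _ _ => rfl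
    haveI : IsScalarTower C CH X := .of_algebraMap_smul fun c x => by
      rw [← algebraMap_smul T (algebraMap C CH c) x]
      rfl
    refine hV T X ((f.restrictScalars C).comp (TensorProduct.mk C CH G 1))
      ((TensorProduct.isBaseChange C G CH).comp hf) Q ?_ hQm
    rw [IsScalarTower.algebraMap_eq C CH T, ← Ideal.comap_comap, hQq, hqn]
  · have hflat : Module.Flat H (LocalizedModule qH.primeCompl GH) :=
      (hI H).2 (by rw [h0, Ideal.map_bot]) CH GH LinearMap.id (IsBaseChange.ofEquiv (LinearEquiv.refl CH GH))
        qH rfl hqm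
    haveI : Module.Flat C CH :=
      Module.Flat.isBaseChange R C H CH (Algebra.IsPushout.symm inferInstance : Algebra.IsPushout R C H CH).out
    haveI := hflat
    haveI : Module.Flat R (LocalizedModule qH.primeCompl GH) := Module.Flat.trans R H _
    exact RG.FibrePoint.flatAt_down (TensorProduct.mk C CH G 1) (TensorProduct.isBaseChange C G CH) n qH hqn
      inferInstance

include hn in
/-- Flatness at a point is tested on the Artinian quotients of the base. -/
theorem flat_of_artinian
    (h : ∀ (A' : Type u) [CommRing A'] [IsArtinianRing A'] [IsLocalRing A'] [Algebra R A']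
      [IsLocalHom (algebraMap R A')], Function.Surjective (algebraMap R A') → FlatPts.FlatPts R n G A') :
    Module.Flat R (LocalizedModule n.primeCompl G) := by
  let H := Henselian.Henselization.Henselization R
  haveI : IsNoetherianRing H := Henselian.Permanence.isNoetherianRing R H
  obtain ⟨I, h1, h2⟩ := exists_test (R := R) G n hn
  refine h2 (eq_bot_iff.2 ?_)
  rw [← Ideal.iInf_pow_eq_bot_of_isLocalRing (maximalIdeal H) (maximalIdeal.isMaximal H).ne_top]
  refine le_iInf fun j => le_trans ?_ (Ideal.pow_le_pow_right (Nat.le_succ j))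
  let P := maximalIdeal H ^ (j + 1)
  let A' := H ⧸ P
  have hP : P ≠ ⊤ := fun h' =>
    (maximalIdeal.isMaximal H).ne_top (top_le_iff.1 (h' ▸ Ideal.pow_le_self (Nat.succ_ne_zero j)))
  haveI : Nontrivial A' := Ideal.Quotient.nontrivial_iff.2 hP
  haveI : IsLocalRing A' := IsLocalRing.of_surjective' (Ideal.Quotient.mk P) Ideal.Quotient.mk_surjective
  haveI : IsArtinianRing A' := by
    rw [isArtinianRing_iff_isNilpotent_maximalIdeal]
    refine ⟨j + 1, ?_⟩
    rw [← IsLocalRing.map_maximalIdeal_of_surjective (Ideal.Quotient.mk P) Ideal.Quotient.mk_surjective,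
      ← Ideal.map_pow, Ideal.zero_eq_bot]
    exact Ideal.map_quotient_self P
  haveI : IsLocalHom (algebraMap H A') := IsLocalHom.of_surjective (Ideal.Quotient.mk P) Ideal.Quotient.mk_surjective
  haveI : IsLocalHom (algebraMap R A') := by
    rw [IsScalarTower.algebraMap_eq R H A']
    exact RingHom.isLocalHom_comp _ _
  have hs : Function.Surjective (algebraMap R A') := fun x => by
    obtain ⟨y, rfl⟩ := Ideal.Quotient.mk_surjective x
    obtain ⟨z, hz⟩ := (Henselian.Henselization.quotientMap_pow_bijective R H (j + 1)).2 (Ideal.Quotient.mk _ y)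
    obtain ⟨r, rfl⟩ := Ideal.Quotient.mk_surjective z
    refine ⟨r, ?_⟩
    show Ideal.Quotient.mk P (algebraMap R H r) = Ideal.Quotient.mk P y
    rw [Ideal.Quotient.eq]
    rw [Ideal.quotientMap_mk, Ideal.Quotient.eq] at hz
    rwa [Ideal.map_pow, Henselian.Henselization.map_maximalIdeal R H] at hz
  have h3 := h1 A' (h A' hs)
  rwa [Ideal.Quotient.algebraMap_eq, Ideal.map_eq_bot_iff_le_ker, Ideal.mk_ker] at h3

include hn in
/-- Over a reduced base flatness at a point is tested on dominating discrete valuation rings. -/
theorem flat_of_dvr [IsReduced R]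
    (h : ∀ (V : Type u) [CommRing V] [IsDomain V] [IsDiscreteValuationRing V] [Algebra R V]
      [IsLocalHom (algebraMap R V)], FlatPts.FlatPts R n G V) :
    Module.Flat R (LocalizedModule n.primeCompl G) := by
  let H := Henselian.Henselization.Henselization R
  haveI : IsNoetherianRing H := Henselian.Permanence.isNoetherianRing R H
  haveI : IsReduced H := (Henselian.Permanence.isReduced_iff R H).1 inferInstance
  obtain ⟨I, h1, h2⟩ := exists_test (R := R) G n hn
  refine h2 (eq_bot_iff.2 ?_)
  have hIm : I ≤ maximalIdeal H := by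
    refine le_maximalIdeal fun hI' => ?_
    by_cases hex : ∃ P : Ideal H, P.IsPrime ∧ P ≠ maximalIdeal H
    · obtain ⟨P, hP, hPm⟩ := hex
      obtain ⟨V, _, _, _, ψ, -, hle⟩ := H24.ValFlat.exists_dvr_kernel P hPm
      letI : Algebra H V := ψ.toAlgebra
      haveI : IsLocalHom (algebraMap H V) := ((local_hom_TFAE ψ).out 2 0).1 hle
      letI : Algebra R V := (ψ.comp (algebraMap R H)).toAlgebra
      haveI : IsScalarTower R H V := .of_algebraMap_eq' rfl
      haveI : IsLocalHom (algebraMap R V) := RingHom.isLocalHom_comp _ _
      have h3 := h1 V (h V)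
      rw [hI', Ideal.map_top] at h3
      exact top_ne_bot h3
    · push Not at hex
      -- `H` is a field
      have hm : maximalIdeal H = ⊥ := by
        rw [eq_bot_iff, ← Ideal.zero_eq_bot, ← nilradical_eq_zero H, nilradical_eq_sInf]
        exact le_sInf fun P hP => (hex P hP).ge
      haveI : IsLocalHom (algebraMap H H) := ⟨fun _ h => h⟩
      have hfld := (IsLocalRing.isField_iff_maximalIdeal_eq.2 hm)
      have h4 : FlatPts.FlatPts R n G H := by
        intro T _ _ _ _ _ _ _ X _ _ _ _ _ _ f _ Q _ _ _
        letI := hfld.toField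
        infer_instance
      have h3 := h1 H h4
      rw [hI', Ideal.map_top] at h3
      exact top_ne_bot h3
  rw [← Ideal.zero_eq_bot, ← nilradical_eq_zero H, nilradical_eq_sInf]
  refine le_sInf fun P hP => ?_
  haveI : P.IsPrime := hP
  by_cases hPm : P = maximalIdeal H
  · rw [hPm]
    exact hIm
  obtain ⟨V, _, _, _, ψ, hker, hle⟩ := H24.ValFlat.exists_dvr_kernel P hPm
  letI : Algebra H V := ψ.toAlgebra
  haveI : IsLocalHom (algebraMap H V) := ((local_hom_TFAE ψ).out 2 0).1 hle
  letI : Algebra R V := (ψ.comp (algebraMap R H)).toAlgebra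
  haveI : IsScalarTower R H V := .of_algebraMap_eq' rfl
  haveI : IsLocalHom (algebraMap R V) := RingHom.isLocalHom_comp _ _
  have h3 := h1 V (h V)
  rw [Ideal.map_eq_bot_iff_le_ker] at h3
  exact h3.trans hker.le

end Test

end Groth.Agent.Lib.RG57.RelS2.Criteria
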