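import Groth.Agent.Lib.RG57.RelS2.Fibres
import Groth.Agent.Lib.QDepth.KerBC
import Groth.Agent.Lib.QDepth.FlatBC

/-!
# Depth of the closed fibre at a point after a local change of base
-/

set_option autoImplicit false
set_option linter.style.haveILetI false
set_option maxHeartbeats 400000

universe u

open IsLocalRing LocCoh
open scoped TensorProduct
open Groth.Agent.Lib

attribute [local instance] Algebra.TensorProduct.rightAlgebra

namespace Groth.Agent.Lib.RG57.RelS2.Depth

/-- Reduction modulo an ideal of the base is a base change. -/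
theorem isPushout_quot (A B : Type u) [CommRing A] [CommRing B] [Algebra A B] (I : Ideal A) :
    Algebra.IsPushout A B (A ⧸ I) (B ⧸ I.map (algebraMap A B)) := by
  refine Algebra.IsPushout.of_equiv (S' := B ⊗[A] (A ⧸ I))
    (Algebra.TensorProduct.quotIdealMapEquivTensorQuot B I).symm (RingHom.ext fun x => ?_)
  obtain ⟨a, rfl⟩ := Ideal.Quotient.mk_surjective x
  show (Algebra.TensorProduct.quotIdealMapEquivTensorQuot B I).symm ((1 : B) ⊗ₜ[A] Ideal.Quotient.mk I a) = _
  rw [show ((1 : B) ⊗ₜ[A] Ideal.Quotient.mk I a) = algebraMap A B a • ((1 : B) ⊗ₜ[A] (1 : A ⧸ I)) by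
    rw [algebraMap_smul, TensorProduct.smul_tmul', TensorProduct.smul_tmul, Algebra.smul_def, mul_one]; rfl]
  rw [map_smul, ← Algebra.TensorProduct.one_def, map_one, Algebra.smul_def, mul_one]
  rfl

variable {R C : Type u} [CommRing R] [IsLocalRing R] [CommRing C] [Algebra R C] [IsNoetherianRing C]

/-- The closed fibre at a point has depth two along `V(J)`. -/
theorem two_le_quot (n : Ideal C) [n.IsPrime] (hn : n.comap (algebraMap R C) = maximalIdeal R)
    (hS2 : LocCoh.HasSk 2 (EGA4.FibLocRing R C n) (EGA4.FibLocRing R C n)) (J : Ideal C)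
    (hcodim : ∀ q : PrimeSpectrum C, J ≤ q.asIdeal → (2 : WithBot ℕ∞) ≤ ringKrullDim (EGA4.FibLocRing R C q.asIdeal)) :
    2 ≤ idealDepth (J.map (algebraMap C (Localization.AtPrime n)))
      (Localization.AtPrime n ⧸ ((maximalIdeal R).map (algebraMap R C)).map (algebraMap C (Localization.AtPrime n))) := by
  let Cn := Localization.AtPrime n
  let I := (maximalIdeal R).map (algebraMap R C)
  let B₀ := C ⧸ I
  let X := Cn ⧸ I.map (algebraMap C Cn)
  haveI : IsNoetherianRing Cn := IsLocalization.isNoetherianRing n.primeCompl _ inferInstance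
  have hS : LocCoh.HasSk 2 X X := EGA75.Sn.isoInvariant_ring 2 _ _
    (Ideal.quotEquivOfEq (by rw [hn, Ideal.map_map, ← IsScalarTower.algebraMap_eq]) : EGA4.FibLocRing R C n ≃+* X) hS2
  rw [Depth.Basic.idealDepth_eq_map_of_surjective (R := Cn) (S := X) Ideal.Quotient.mk_surjective]
  show ((2 : ℕ) : ℕ∞) ≤ _
  rw [QDepth.le_idealDepth_iff_forall]
  intro P hP
  refine QDepth.le_depth_of_hasSk hS P.asIdeal le_rfl ?_
  rw [show Module.supportDim (Localization.AtPrime P.asIdeal) (LocalizedModule P.asIdeal.primeCompl X) =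
      ringKrullDim (Localization.AtPrime P.asIdeal) from
    Module.supportDim_self_eq_ringKrullDim (R := Localization.AtPrime P.asIdeal),
    IsLocalization.AtPrime.ringKrullDim_eq_height P.asIdeal (Localization.AtPrime P.asIdeal),
    ← IsLocalization.height_comap (Algebra.algebraMapSubmonoid B₀ n.primeCompl) P.asIdeal]
  -- the corresponding point of the fibre
  let P₀ : Ideal B₀ := P.asIdeal.comap (algebraMap B₀ X)
  let q : Ideal C := P₀.comap (Ideal.Quotient.mk I)
  haveI : P₀.IsPrime := Ideal.IsPrime.comap _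
  haveI : q.IsPrime := Ideal.IsPrime.comap _
  have hIq : I ≤ q := fun x hx => by
    show Ideal.Quotient.mk I x ∈ P₀
    rw [Ideal.Quotient.eq_zero_iff_mem.2 hx]
    exact P₀.zero_mem
  have hqm : q.comap (algebraMap R C) = maximalIdeal R :=
    ((maximalIdeal.isMaximal R).eq_of_le (Ideal.IsPrime.ne_top inferInstance) (Ideal.map_le_iff_le_comap.1 hIq)).symm
  have hJq : J ≤ q := fun x hx => hP (Ideal.mem_map_of_mem _ (Ideal.mem_map_of_mem _ hx))
  let Cq := Localization.AtPrime q
  let Xq := Cq ⧸ I.map (algebraMap C Cq)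
  haveI : IsLocalization.AtPrime Xq P₀ := by
    have h : Algebra.algebraMapSubmonoid B₀ q.primeCompl = P₀.primeCompl := by
      ext x
      constructor
      · rintro ⟨c, hc, rfl⟩
        exact hc
      · intro hx
        obtain ⟨c, rfl⟩ := Ideal.Quotient.mk_surjective x
        exact ⟨c, hx, rfl⟩
    rw [IsLocalization.AtPrime, ← h]
    infer_instance
  refine (hcodim ⟨q, inferInstance⟩ hJq).trans (le_of_eq ?_)
  rw [← IsLocalization.AtPrime.ringKrullDim_eq_height P₀ Xq]
  exact ringKrullDim_eq_of_ringEquiv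
    (Ideal.quotEquivOfEq (by rw [hqm, Ideal.map_map, ← IsScalarTower.algebraMap_eq]) : EGA4.FibLocRing R C q ≃+* Xq)

variable {R' C' : Type u} [CommRing R'] [IsLocalRing R'] [CommRing C'] [IsNoetherianRing C']
  [Algebra R R'] [IsLocalHom (algebraMap R R')] [Algebra C C'] [Algebra R' C'] [Algebra R C']
  [IsScalarTower R C C'] [IsScalarTower R R' C'] [Algebra.IsPushout R C R' C']

/-- The closed fibre after a local change of base has depth two along `V(J)`. -/
theorem two_le_quot_baseChange (n : Ideal C) [n.IsPrime] (hn : n.comap (algebraMap R C) = maximalIdeal R) (J : Ideal C)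
    (h : 2 ≤ idealDepth (J.map (algebraMap C (Localization.AtPrime n)))
      (Localization.AtPrime n ⧸ ((maximalIdeal R).map (algebraMap R C)).map (algebraMap C (Localization.AtPrime n))))
    (q' : Ideal C') [q'.IsPrime] (hq'n : q'.comap (algebraMap C C') = n)
    (hq'm : q'.comap (algebraMap R' C') = maximalIdeal R') :
    2 ≤ idealDepth ((J.map (algebraMap C C')).map (algebraMap C' (Localization.AtPrime q')))
      (Localization.AtPrime q' ⧸ (q'.comap (algebraMap R' C')).map (algebraMap R' (Localization.AtPrime q'))) := by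
  let Cn := Localization.AtPrime n
  let L := Localization.AtPrime q'
  let I₀ := (maximalIdeal R).map (algebraMap R C)
  let I₁ := (maximalIdeal R').map (algebraMap R' C')
  let B₀ := C ⧸ I₀
  let B₁ := C' ⧸ I₁
  let X₀ := Cn ⧸ I₀.map (algebraMap C Cn)
  let X₁ := L ⧸ I₁.map (algebraMap C' L)
  haveI : IsNoetherianRing Cn := IsLocalization.isNoetherianRing n.primeCompl _ inferInstance
  haveI : IsNoetherianRing L := IsLocalization.isNoetherianRing q'.primeCompl _ inferInstance
  have hm : maximalIdeal R ≤ (maximalIdeal R').comap (algebraMap R R') := fun r hr =>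
    map_nonunit (algebraMap R R') r hr
  -- the two fibres
  let k₀ := R ⧸ maximalIdeal R
  let k₁ := R' ⧸ maximalIdeal R'
  letI : Algebra k₀ k₁ := (Ideal.quotientMap (maximalIdeal R') (algebraMap R R') hm).toAlgebra
  haveI : IsScalarTower R k₀ k₁ := .of_algebraMap_eq fun _ => rfl
  have hI : I₀ ≤ I₁.comap (algebraMap C C') := by
    rw [← Ideal.map_le_iff_le_comap, Ideal.map_map, ← IsScalarTower.algebraMap_eq,
      IsScalarTower.algebraMap_eq R R' C', ← Ideal.map_map]
    exact Ideal.map_mono (Ideal.map_le_iff_le_comap.2 hm)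
  letI : Algebra B₀ B₁ := (Ideal.quotientMap I₁ (algebraMap C C') hI).toAlgebra
  haveI : IsScalarTower C B₀ B₁ := .of_algebraMap_eq fun _ => rfl
  haveI : IsScalarTower R B₀ B₁ := .of_algebraMap_eq fun r => by
    rw [IsScalarTower.algebraMap_apply R C B₀, ← IsScalarTower.algebraMap_apply C B₀ B₁,
      ← IsScalarTower.algebraMap_apply R C B₁]
  letI : Algebra k₀ B₁ := ((algebraMap k₁ B₁).comp (algebraMap k₀ k₁)).toAlgebra
  haveI : IsScalarTower k₀ k₁ B₁ := .of_algebraMap_eq' rfl
  haveI : IsScalarTower k₀ B₀ B₁ := .of_algebraMap_eq fun x => by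
    obtain ⟨r, rfl⟩ := Ideal.Quotient.mk_surjective x
    show Ideal.Quotient.mk I₁ (algebraMap R' C' (algebraMap R R' r)) = Ideal.Quotient.mk I₁ (algebraMap C C' (algebraMap R C r))
    rw [← IsScalarTower.algebraMap_apply, ← IsScalarTower.algebraMap_apply]
  haveI : IsScalarTower R k₁ B₁ := .of_algebraMap_eq fun r => by
    rw [IsScalarTower.algebraMap_apply R R' k₁, ← IsScalarTower.algebraMap_apply R' k₁ B₁,
      ← IsScalarTower.algebraMap_apply R R' B₁]
  haveI := isPushout_quot R C (maximalIdeal R)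
  haveI := isPushout_quot R' C' (maximalIdeal R')
  haveI : Algebra.IsPushout R k₀ C B₀ := Algebra.IsPushout.symm inferInstance
  haveI : Algebra.IsPushout R' k₁ C' B₁ := Algebra.IsPushout.symm inferInstance
  haveI : Algebra.IsPushout R R' C C' := Algebra.IsPushout.symm inferInstance
  haveI : Algebra.IsPushout R k₁ C B₁ := (Algebra.IsPushout.comp_iff R R' C C').2 inferInstance
  haveI : Algebra.IsPushout k₀ k₁ B₀ B₁ := (Algebra.IsPushout.comp_iff R k₀ C B₀).1 inferInstance
  haveI : Module.Flat B₀ B₁ := by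
    haveI : Module.Flat k₀ k₁ := by
      letI := Ideal.Quotient.field (maximalIdeal R)
      infer_instance
    exact Module.Flat.isBaseChange k₀ B₀ k₁ B₁ (Algebra.IsPushout.symm inferInstance : Algebra.IsPushout k₀ B₀ k₁ B₁).out
  -- and their local rings
  letI : Algebra B₀ X₁ := ((algebraMap B₁ X₁).comp (algebraMap B₀ B₁)).toAlgebra
  haveI : IsScalarTower B₀ B₁ X₁ := .of_algebraMap_eq' rfl
  let W := Algebra.algebraMapSubmonoid B₀ n.primeCompl
  have hW : ∀ w : W, IsUnit (algebraMap B₀ X₁ w) := by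
    rintro ⟨_, c, hc, rfl⟩
    have hc' : algebraMap C C' c ∉ q' := fun h' => hc (hq'n ▸ h')
    exact (IsLocalization.map_units L (⟨_, hc'⟩ : q'.primeCompl)).map (Ideal.Quotient.mk (I₁.map (algebraMap C' L)))
  let φ : X₀ →+* X₁ := IsLocalization.lift hW
  letI : Algebra X₀ X₁ := φ.toAlgebra
  haveI : IsScalarTower B₀ X₀ X₁ := .of_algebraMap_eq fun x => (IsLocalization.lift_eq hW x).symm
  haveI : Module.Flat B₁ X₁ := IsLocalization.flat X₁ (Algebra.algebraMapSubmonoid B₁ q'.primeCompl)
  haveI : Module.Flat B₀ X₁ := Module.Flat.trans B₀ B₁ X₁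
  haveI : Module.Flat X₀ X₁ := (Module.flat_iff_of_isLocalization X₀ W X₁).2 inferInstance
  have hI₁ : I₁.map (algebraMap C' L) ≤ maximalIdeal L := by
    rw [← Localization.AtPrime.map_eq_maximalIdeal]
    refine Ideal.map_mono (Ideal.map_le_iff_le_comap.2 ?_)
    exact hq'm.ge
  haveI : Nontrivial X₁ := Ideal.Quotient.nontrivial_iff.2 fun h' => (maximalIdeal.isMaximal L).ne_top (top_le_iff.1 (h' ▸ hI₁))
  haveI : IsLocalRing X₁ := IsLocalRing.of_surjective' (Ideal.Quotient.mk (I₁.map (algebraMap C' L))) Ideal.Quotient.mk_surjective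
  have hI₀ : I₀.map (algebraMap C Cn) ≤ maximalIdeal Cn := by
    rw [← Localization.AtPrime.map_eq_maximalIdeal]
    refine Ideal.map_mono (Ideal.map_le_iff_le_comap.2 ?_)
    exact hn.ge
  haveI : Nontrivial X₀ := Ideal.Quotient.nontrivial_iff.2 fun h' => (maximalIdeal.isMaximal Cn).ne_top (top_le_iff.1 (h' ▸ hI₀))
  haveI : IsLocalRing X₀ := IsLocalRing.of_surjective' (Ideal.Quotient.mk (I₀.map (algebraMap C Cn))) Ideal.Quotient.mk_surjective
  haveI : IsLocalHom (algebraMap X₀ X₁) := ⟨fun x hx => by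
    obtain ⟨b, ⟨w, hw⟩, rfl⟩ := IsLocalization.exists_mk'_eq W x
    obtain ⟨c, rfl⟩ := Ideal.Quotient.mk_surjective b
    have hu : IsUnit (algebraMap B₀ X₁ (Ideal.Quotient.mk I₀ c)) := by
      rw [IsScalarTower.algebraMap_apply B₀ X₀ X₁, ← IsLocalization.mk'_spec X₀ (Ideal.Quotient.mk I₀ c) ⟨w, hw⟩, map_mul]
      exact hx.mul ((IsLocalization.map_units X₀ (⟨w, hw⟩ : W)).map _)
    haveI : IsLocalHom (Ideal.Quotient.mk (I₁.map (algebraMap C' L))) :=
      IsLocalHom.of_surjective _ Ideal.Quotient.mk_surjective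
    have hu' : IsUnit (algebraMap C' L (algebraMap C C' c)) :=
      IsLocalHom.map_nonunit (f := Ideal.Quotient.mk (I₁.map (algebraMap C' L))) _ hu
    have hc : c ∉ n := fun h' => (IsLocalization.AtPrime.isUnit_to_map_iff L q' _).1 hu' (hq'n.ge h')
    rw [IsLocalization.mk'_eq_mul_mk'_one]
    exact (IsLocalization.map_units X₀ (⟨_, c, hc, rfl⟩ : W)).mul (IsUnit.of_mul_eq_one (algebraMap B₀ X₀ w)
      (by rw [mul_comm, IsLocalization.mul_mk'_eq_mk'_of_mul, mul_one]; exact IsLocalization.mk'_self X₀ hw))⟩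
  haveI : Module.FaithfullyFlat X₀ X₁ := Module.FaithfullyFlat.of_flat_of_isLocalHom
  -- depths
  rw [Depth.Basic.idealDepth_congr _ (Submodule.quotEquivOfEq _ (I₁.map (algebraMap C' L))
    (by rw [hq'm, Ideal.map_map, ← IsScalarTower.algebraMap_eq]) : _ ≃ₗ[L] X₁),
    Depth.Basic.idealDepth_eq_map_of_surjective (R := L) (S := X₁) Ideal.Quotient.mk_surjective]
  rw [Depth.Basic.idealDepth_eq_map_of_surjective (R := Cn) (S := X₀) Ideal.Quotient.mk_surjective,
    ← QDepth.idealDepth_map_eq (A := X₀) (B := X₁) _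
      (fun p _ => ⟨(PrimeSpectrum.comap_surjective_of_faithfullyFlat p).choose,
        congrArg PrimeSpectrum.asIdeal (PrimeSpectrum.comap_surjective_of_faithfullyFlat (B := X₁) p).choose_spec⟩) X₀,
    Depth.Basic.idealDepth_congr _ (TensorProduct.AlgebraTensorModule.rid X₀ X₁ X₁)] at h
  convert h using 2
  simp only [Ideal.map_map]
  congr 1
  refine RingHom.ext fun c => ?_
  show algebraMap B₁ X₁ (algebraMap B₀ B₁ (Ideal.Quotient.mk I₀ c)) = algebraMap X₀ X₁ (algebraMap B₀ X₀ (Ideal.Quotient.mk I₀ c))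
  rw [← IsScalarTower.algebraMap_apply B₀ B₁, ← IsScalarTower.algebraMap_apply B₀ X₀]

end Groth.Agent.Lib.RG57.RelS2.Depth
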