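import Groth.Agent.Lib.QDepth.Sk
import Groth.Agent.Lib.EGA75.SnTensor
import Groth.Agent.Lib.EGA75.SnLocus
import Groth.Agent.Lib.Excellent.NormalFibres
import Groth.Prelude.Def_EGA4b

/-!
# The condition `(S₂)` on the local rings of the fibres of a base change
-/

set_option autoImplicit false
set_option linter.style.haveILetI false
set_option maxHeartbeats 400000

universe u

open IsLocalRing
open scoped TensorProduct
open Groth.Agent.Lib

attribute [local instance] Algebra.TensorProduct.rightAlgebra

namespace Groth.Agent.Lib.RG57.RelS2.Fibres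

/-- The depth condition for a local ring satisfying `(Sₙ)`. -/
theorem local_of_hasSk (n : ℕ) (D : Type u) [CommRing D] [IsLocalRing D] (h : LocCoh.HasSk n D D) :
    EGA75.Sn.Local n D := by
  let L := Localization.AtPrime (maximalIdeal D)
  let e : D ≃+* L := (IsLocalization.atUnits D (maximalIdeal D).primeCompl
    (fun x hx => not_not.1 hx : (maximalIdeal D).primeCompl ≤ IsUnit.submonoid D)).toRingEquiv
  exact EGA75.Sn.isoInvariant n L D e.symm ((EGA75.Sn.hasSk_iff n D).1 h _)

/-- A localization of an `(Sₙ)` ring is `(Sₙ)`. -/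
theorem hasSk_atPrime (n : ℕ) (A : Type u) [CommRing A] (h : LocCoh.HasSk n A A) (p : PrimeSpectrum A) :
    LocCoh.HasSk n (Localization.AtPrime p.asIdeal) (Localization.AtPrime p.asIdeal) :=
  (EGA75.SnLocus.hasSkAt_iff A n p).2 fun q _ => h q.asIdeal

/-- The fibre local ring as a localization of the fibre ring. -/
theorem exists_fibLocRing_equiv (A B : Type u) [CommRing A] [CommRing B] [Algebra A B] (p : Ideal A)
    [p.IsPrime] (Q : Ideal (p.Fiber B)) [Q.IsPrime] :
    ∃ (r : Ideal B) (_ : r.IsPrime), r.comap (algebraMap A B) = p ∧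
      r = Q.comap (Algebra.TensorProduct.includeRight (R := A) (A := p.ResidueField) (B := B)) ∧
      Nonempty (EGA4.FibLocRing A B r ≃+* Localization.AtPrime Q) := by
  let r := Q.comap (Algebra.TensorProduct.includeRight (R := A) (A := p.ResidueField) (B := B))
  have hr : r.comap (algebraMap A B) = p := by
    conv_rhs => rw [Ideal.over_def Q p]
    ext a
    simp only [r, Ideal.mem_comap, Ideal.under_def, AlgHom.commutes]
  refine ⟨r, inferInstance, hr, rfl, ⟨RingEquiv.trans ?_ (Ideal.Fiber.algEquivAux₂ p Q).symm.toRingEquiv⟩⟩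
  exact Ideal.quotEquivOfEq (by rw [hr, Ideal.map_map, ← IsScalarTower.algebraMap_eq])

/-- The fibre ring satisfies `(Sₙ)` if its local rings do. -/
theorem hasSk_fiber (n : ℕ) (A B : Type u) [CommRing A] [CommRing B] [Algebra A B] (p : Ideal A) [p.IsPrime]
    (h : ∀ (q : Ideal B) [q.IsPrime], LocCoh.HasSk n (EGA4.FibLocRing A B q) (EGA4.FibLocRing A B q)) :
    LocCoh.HasSk n (p.Fiber B) (p.Fiber B) := by
  rw [EGA75.Sn.hasSk_iff]
  intro Q _
  obtain ⟨r, hr, -, -, ⟨e⟩⟩ := exists_fibLocRing_equiv A B p Q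
  haveI := hr
  haveI : IsLocalRing (EGA4.FibLocRing A B r) := e.symm.isLocalRing
  exact EGA75.Sn.isoInvariant n _ _ e (local_of_hasSk n _ (h r))

/-- The fibre local rings satisfy `(Sₙ)` if the fibre ring does. -/
theorem hasSk_fibLocRing (n : ℕ) (A B : Type u) [CommRing A] [CommRing B] [Algebra A B] (p : Ideal A)
    [p.IsPrime] (h : LocCoh.HasSk n (p.Fiber B) (p.Fiber B)) (q : Ideal B) [q.IsPrime]
    (hq : q.comap (algebraMap A B) = p) :
    LocCoh.HasSk n (EGA4.FibLocRing A B q) (EGA4.FibLocRing A B q) := by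
  let Q : PrimeSpectrum (p.Fiber B) := PrimeSpectrum.preimageEquivFiber A B ⟨p, inferInstance⟩
    ⟨⟨q, inferInstance⟩, PrimeSpectrum.ext hq⟩
  obtain ⟨r, hr, -, hrQ, ⟨e⟩⟩ := exists_fibLocRing_equiv A B p Q.asIdeal
  haveI := hr
  have hqr : q = r := by
    have h1 := congrArg (fun z => z.1.asIdeal) ((PrimeSpectrum.preimageEquivFiber A B ⟨p, inferInstance⟩).symm_apply_apply
      ⟨⟨q, inferInstance⟩, PrimeSpectrum.ext hq⟩)
    exact h1.symm.trans hrQ.symm
  subst hqr
  exact EGA75.Sn.isoInvariant_ring n _ _ e.symm (hasSk_atPrime n _ h Q)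

/-- The fibre local rings of a local base change satisfy `(Sₙ)`. -/
theorem hasSk_fibLocRing_baseChange (n : ℕ) (R C R' C' : Type u) [CommRing R] [CommRing C] [CommRing R']
    [CommRing C'] [Algebra R C] [Algebra.FiniteType R C] [Algebra R R'] [Algebra C C'] [Algebra R' C']
    [Algebra R C'] [IsScalarTower R C C'] [IsScalarTower R R' C'] [Algebra.IsPushout R C R' C']
    (h : ∀ (q : Ideal C) [q.IsPrime], LocCoh.HasSk n (EGA4.FibLocRing R C q) (EGA4.FibLocRing R C q))
    (q' : Ideal C') [q'.IsPrime] :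
    LocCoh.HasSk n (EGA4.FibLocRing R' C' q') (EGA4.FibLocRing R' C' q') := by
  let P := q'.comap (algebraMap R' C')
  let p := P.comap (algebraMap R R')
  letI : Algebra p.ResidueField P.ResidueField := (Ideal.ResidueField.map p P (algebraMap R R') rfl).toAlgebra
  haveI : IsScalarTower R p.ResidueField P.ResidueField := IsScalarTower.of_algebraMap_eq fun r => by
    rw [RingHom.algebraMap_toAlgebra, Ideal.ResidueField.map_algebraMap,
      IsScalarTower.algebraMap_apply R R' P.ResidueField]
  have h1 : LocCoh.HasSk n (p.Fiber C ⊗[p.ResidueField] P.ResidueField) (p.Fiber C ⊗[p.ResidueField] P.ResidueField) :=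
    EGA75.SnTensor.hasSk_tensor_field n p.ResidueField (p.Fiber C) P.ResidueField (hasSk_fiber n R C p h)
  haveI : Algebra.IsPushout R R' C C' := Algebra.IsPushout.symm inferInstance
  let e' : R' ⊗[R] C ≃ₐ[R'] C' := Algebra.IsPushout.equiv R R' C C'
  let e1 : P.ResidueField ⊗[p.ResidueField] p.Fiber C ≃+* P.ResidueField ⊗[R] C :=
    (Algebra.TensorProduct.cancelBaseChange R p.ResidueField P.ResidueField P.ResidueField C).toRingEquiv
  let e : p.Fiber C ⊗[p.ResidueField] P.ResidueField ≃+* P.Fiber C' :=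
    (Algebra.TensorProduct.comm p.ResidueField (p.Fiber C) P.ResidueField).toRingEquiv.trans
      (e1.trans ((Algebra.TensorProduct.cancelBaseChange R R' P.ResidueField P.ResidueField C).symm.toRingEquiv.trans
        (Algebra.TensorProduct.congr (AlgEquiv.refl : P.ResidueField ≃ₐ[R'] P.ResidueField) e').toRingEquiv))
  exact hasSk_fibLocRing n R' C' P (EGA75.Sn.isoInvariant_ring n _ _ e h1) q' rfl

/-- A local `(S₂)` ring of dimension at least two has depth at least two. -/
theorem two_le_depth (D : Type u) [CommRing D] [IsLocalRing D] [IsNoetherianRing D]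
    (h : LocCoh.HasSk 2 D D) (hd : (2 : WithBot ℕ∞) ≤ ringKrullDim D) :
    2 ≤ LocCoh.idealDepth (maximalIdeal D) D := by
  show ((2 : ℕ) : ℕ∞) ≤ _
  rw [QDepth.le_idealDepth_iff_forall]
  intro p hp
  refine QDepth.le_depth_of_hasSk h p.asIdeal le_rfl ?_
  rw [show Module.supportDim (Localization.AtPrime p.asIdeal) (LocalizedModule p.asIdeal.primeCompl D) =
      ringKrullDim (Localization.AtPrime p.asIdeal) from
    Module.supportDim_self_eq_ringKrullDim (R := Localization.AtPrime p.asIdeal),
    IsLocalization.AtPrime.ringKrullDim_eq_height p.asIdeal,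
    show p.asIdeal = maximalIdeal D from ((maximalIdeal.isMaximal D).eq_of_le p.isPrime.ne_top hp).symm,
    IsLocalRing.maximalIdeal_height_eq_ringKrullDim]
  exact hd

/-- The fibre local rings have depth two along `V(J)`. -/
theorem two_le_fibres (R C : Type u) [CommRing R] [CommRing C] [IsNoetherianRing C] [Algebra R C] (J : Ideal C)
    (hS2 : ∀ q : PrimeSpectrum C, LocCoh.HasSk 2 (EGA4.FibLocRing R C q.asIdeal) (EGA4.FibLocRing R C q.asIdeal))
    (hcodim : ∀ q : PrimeSpectrum C, J ≤ q.asIdeal → (2 : WithBot ℕ∞) ≤ ringKrullDim (EGA4.FibLocRing R C q.asIdeal))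
    (q : PrimeSpectrum C) (hq : J ≤ q.asIdeal) :
    2 ≤ LocCoh.idealDepth (q.asIdeal.map (algebraMap C (EGA4.FibLocRing R C q.asIdeal)))
      (EGA4.FibLocRing R C q.asIdeal) := by
  let L := Localization.AtPrime q.asIdeal
  let D := EGA4.FibLocRing R C q.asIdeal
  haveI : Nontrivial D := by
    by_contra hn
    haveI : Subsingleton D := not_nontrivial_iff_subsingleton.1 hn
    have h2 := hcodim q hq
    rw [ringKrullDim_eq_bot_of_subsingleton] at h2
    exact absurd h2 (by simp)
  haveI : IsLocalRing D := .of_surjective' _ Ideal.Quotient.mk_surjective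
  haveI : IsNoetherianRing L := IsLocalization.isNoetherianRing q.asIdeal.primeCompl _ inferInstance
  have hmax : q.asIdeal.map (algebraMap C D) = maximalIdeal D := by
    rw [IsScalarTower.algebraMap_eq C L D, ← Ideal.map_map, Localization.AtPrime.map_eq_maximalIdeal]
    exact IsLocalRing.map_maximalIdeal_of_surjective _ Ideal.Quotient.mk_surjective
  rw [hmax]
  exact two_le_depth D (hS2 q) (hcodim q hq)

end Groth.Agent.Lib.RG57.RelS2.Fibres
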