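import Groth.Agent.Lib.RG57.RelS2.Fibres
import Groth.Agent.Lib.QDepth.FourTermAt
import Groth.Agent.Lib.QDepth.DoubleDual
import Groth.Agent.Lib.RG57.FlatPtsInduct

/-!
# Relative `(S₂)` refinements through the cokernel of a free presentation
-/

set_option autoImplicit false
set_option linter.style.haveILetI false
set_option maxHeartbeats 400000

universe u

open IsLocalRing
open scoped TensorProduct
open Groth.Agent.Lib

namespace Groth.Agent.Lib.RG57.RelS2.Main

section Quot

variable {A B : Type u} [CommRing A] [CommRing B] [Algebra A B]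
  {K E0 E1 G : Type u}
  [AddCommGroup K] [Module A K] [Module B K] [IsScalarTower A B K]
  [AddCommGroup E0] [Module A E0] [Module B E0] [IsScalarTower A B E0]
  [AddCommGroup E1] [Module A E1] [Module B E1] [IsScalarTower A B E1]
  [AddCommGroup G] [Module A G] [Module B G] [IsScalarTower A B G]

/-- Killed by tensoring with the quotient. -/
theorem tmul_one_eq_zero_iff (I : Ideal A) (m : K) :
    m ⊗ₜ[A] (1 : A ⧸ I) = 0 ↔ m ∈ I.map (algebraMap A B) • (⊤ : Submodule B K) := by
  have he : (TensorProduct.tensorQuotEquivQuotSMul K I) (m ⊗ₜ[A] (1 : A ⧸ I)) = Submodule.Quotient.mk m := by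
    show (TensorProduct.tensorQuotEquivQuotSMul K I) (m ⊗ₜ Ideal.Quotient.mk _ 1) = _
    rw [TensorProduct.tensorQuotEquivQuotSMul_tmul_mk, one_smul]
  rw [← LinearEquiv.map_eq_zero_iff (TensorProduct.tensorQuotEquivQuotSMul K I), he, Submodule.Quotient.mk_eq_zero,
    ← Submodule.restrictScalars_mem A (I.map (algebraMap A B) • (⊤ : Submodule B K)), Ideal.smul_restrictScalars,
    Submodule.restrictScalars_top]

/-- A four term sequence with flat cokernel stays exact modulo an ideal of the base. -/
theorem quot_exact (f : K →ₗ[B] E0) (u : E0 →ₗ[B] E1) (v : E1 →ₗ[B] G) (hf : Function.Injective f)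
    (hfu : Function.Exact f u) (huv : Function.Exact u v) (hv : Function.Surjective v)
    [Module.Flat A E1] [Module.Flat A G] (I : Ideal A) :
    (∀ x, f x ∈ I.map (algebraMap A B) • (⊤ : Submodule B E0) → x ∈ I.map (algebraMap A B) • (⊤ : Submodule B K)) ∧
      ∀ y, u y ∈ I.map (algebraMap A B) • (⊤ : Submodule B E1) →
        ∃ x, y - f x ∈ I.map (algebraMap A B) • (⊤ : Submodule B E0) := by
  obtain ⟨hinj, hex⟩ := QDepth.rTensor_exact_of_flat_coker (f.restrictScalars A) (u.restrictScalars A)
    (v.restrictScalars A) hf hfu huv hv (A ⧸ I)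
  refine ⟨fun x hx => ?_, fun y hy => ?_⟩
  · refine (tmul_one_eq_zero_iff I x).1 (hinj ?_)
    rw [map_zero, LinearMap.rTensor_tmul]
    exact (tmul_one_eq_zero_iff I (f x)).2 hx
  · obtain ⟨z, hz⟩ := (hex (y ⊗ₜ[A] (1 : A ⧸ I))).1 (by
      rw [LinearMap.rTensor_tmul]
      exact (tmul_one_eq_zero_iff I (u y)).2 hy)
    obtain ⟨x, rfl⟩ : ∃ x : K, x ⊗ₜ[A] (1 : A ⧸ I) = z := by
      clear hz
      induction z using TensorProduct.induction_on with
      | zero => exact ⟨0, TensorProduct.zero_tmul _ _⟩
      | tmul m c =>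
        obtain ⟨r, rfl⟩ := Ideal.Quotient.mk_surjective c
        exact ⟨r • m, by rw [TensorProduct.smul_tmul, Algebra.smul_def, mul_one]; rfl⟩
      | add a b ha hb =>
        obtain ⟨a', rfl⟩ := ha
        obtain ⟨b', rfl⟩ := hb
        exact ⟨a' + b', TensorProduct.add_tmul _ _ _⟩
    rw [LinearMap.rTensor_tmul] at hz
    refine ⟨x, (tmul_one_eq_zero_iff I (y - f x)).1 ?_⟩
    rw [TensorProduct.sub_tmul, sub_eq_zero]
    exact hz.symm

end Quot

/-- A kernel of a map of finite projective modules over an `(S₂)` ring is `(S₂)`. -/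
theorem hasSk_two_kernel {D : Type u} [CommRing D] [IsNoetherianRing D] {M P0 P1 : Type u}
    [AddCommGroup M] [Module D M] [Module.Finite D M]
    [AddCommGroup P0] [Module D P0] [Module.Finite D P0] [Module.Projective D P0]
    [AddCommGroup P1] [Module D P1] [Module.Finite D P1] [Module.Projective D P1]
    (f : M →ₗ[D] P0) (u : P0 →ₗ[D] P1) (hf : Function.Injective f) (hfu : Function.Exact f u)
    (hD : LocCoh.HasSk 2 D D) : LocCoh.HasSk 2 D M := by
  refine QDepth.hasSk_of_forall fun p _ j hj hd => ?_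
  let Dp := Localization.AtPrime p
  have hdim : ((j : ℕ∞) : WithBot ℕ∞) ≤ Module.supportDim Dp (LocalizedModule p.primeCompl D) :=
    hd.trans ((Module.supportDim_le_ringKrullDim _ _).trans
      (le_of_eq (Module.supportDim_self_eq_ringKrullDim (R := Dp)).symm))
  have hj' : (j : ℕ∞) ≤ LocCoh.depth Dp Dp := QDepth.le_depth_of_hasSk hD p hj hdim
  haveI : Module.Projective Dp (LocalizedModule p.primeCompl P0) :=
    Module.Projective.of_equiv (IsLocalizedModule.isBaseChange p.primeCompl Dp
      (LocalizedModule.mkLinearMap p.primeCompl P0)).equiv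
  haveI : Module.Projective Dp (LocalizedModule p.primeCompl P1) :=
    Module.Projective.of_equiv (IsLocalizedModule.isBaseChange p.primeCompl Dp
      (LocalizedModule.mkLinearMap p.primeCompl P1)).equiv
  exact QDepth.le_of_exact_of_le_two _ (LocalizedModule.map p.primeCompl f) (LocalizedModule.map p.primeCompl u)
    (QDepth.localized_exact p f u hf hfu).1 (QDepth.localized_exact p f u hf hfu).2 hj
    (QDepth.le_idealDepth_of_isReflexive _ (LocalizedModule p.primeCompl P0) hj hj')
    (QDepth.le_idealDepth_of_isReflexive _ (LocalizedModule p.primeCompl P1) ((Nat.sub_le j 1).trans hj)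
      ((Nat.cast_le.mpr (Nat.sub_le j 1)).trans hj'))

/-- An `(S₂)` module with full support has depth two along an ideal of depth two. -/
theorem two_le_of_hasSk {D : Type u} [CommRing D] [IsNoetherianRing D] (J : Ideal D) {M : Type u}
    [AddCommGroup M] [Module D M] [Module.Finite D M] (hD : 2 ≤ LocCoh.idealDepth J D) (hM : LocCoh.HasSk 2 D M)
    (hs : ∀ P : PrimeSpectrum D, P ∈ Module.support D M) : 2 ≤ LocCoh.idealDepth J M := by
  show ((2 : ℕ) : ℕ∞) ≤ _
  rw [QDepth.le_idealDepth_iff_forall]
  intro P hP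
  let Dp := Localization.AtPrime P.asIdeal
  have hd : ((2 : ℕ∞) : WithBot ℕ∞) ≤ ringKrullDim Dp := by
    refine (WithBot.coe_le_coe.mpr (le_trans hD (QDepth.idealDepth_le_depth_at J D P hP))).trans
      ((Depth.Assoc.depth_le_supportDim (LocalizedModule P.asIdeal.primeCompl D)).trans (le_of_eq ?_))
    exact Module.supportDim_self_eq_ringKrullDim (R := Dp)
  refine QDepth.le_depth_of_hasSk hM P.asIdeal le_rfl (hd.trans ?_)
  rw [Module.supportDim]
  refine Order.krullDim_le_of_strictMono (fun q : PrimeSpectrum Dp => ⟨q, ?_⟩) fun a b h => h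
  exact (DMod.SupportDim.comap_mem_support_iff P M q).mpr (hs _)

section Support

variable {B : Type u} [CommRing B] [IsNoetherianRing B] (J : Ideal B)
  {K E0 : Type u} [AddCommGroup K] [Module B K] [Module.Finite B K] [AddCommGroup E0] [Module B E0]
  [Module.Finite B E0] [Module.Projective B E0]

/-- A module split off a free one outside `V(J)` is faithful or zero near any point. -/
theorem zero_or_faithful (hB : QDepth.Two J B) (hK : QDepth.Two J K) (f : K →ₗ[B] E0)
    (hsplit : ∀ Q : PrimeSpectrum B, ¬ J ≤ Q.asIdeal → ∃ s, s ∉ Q.asIdeal ∧ ∃ π : E0 →ₗ[B] K, π ∘ₗ f = s • LinearMap.id)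
    (q : PrimeSpectrum B) :
    (∀ x : K, ∃ s, s ∉ q.asIdeal ∧ s • x = 0) ∨
      ∀ Q : PrimeSpectrum B, Q ≤ q → Q ∈ Module.support B K := by
  classical
  let 𝔞 : Ideal B := Module.annihilator B K
  let 𝔟 : Ideal B := Module.annihilator B 𝔞
  have hfree : ∀ Q : PrimeSpectrum B, ¬ J ≤ Q.asIdeal → 𝔞 ≤ Q.asIdeal → ∀ a ∈ 𝔞, ∃ s, s ∉ Q.asIdeal ∧ s * a = 0 := by
    intro Q hQ haQ a ha
    obtain ⟨s, hs, π, hπ⟩ := hsplit Q hQ
    let L := Localization.AtPrime Q.asIdeal
    let KQ := LocalizedModule Q.asIdeal.primeCompl K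
    haveI : Module.Projective L (LocalizedModule Q.asIdeal.primeCompl E0) :=
      Module.Projective.of_equiv (IsLocalizedModule.isBaseChange Q.asIdeal.primeCompl L
        (LocalizedModule.mkLinearMap Q.asIdeal.primeCompl E0)).equiv
    let w : Lˣ := (IsLocalization.map_units L (⟨s, hs⟩ : Q.asIdeal.primeCompl)).unit
    haveI : Module.Projective L KQ := Module.Projective.of_split (LocalizedModule.map Q.asIdeal.primeCompl f)
      (((w⁻¹ : Lˣ) : L) • LocalizedModule.map Q.asIdeal.primeCompl π) (by
        refine LinearMap.ext fun z => ?_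
        induction z using LocalizedModule.induction_on with
        | _ m t =>
          show ((w⁻¹ : Lˣ) : L) • LocalizedModule.map Q.asIdeal.primeCompl π
            (LocalizedModule.map Q.asIdeal.primeCompl f (LocalizedModule.mk m t)) = LocalizedModule.mk m t
          erw [LocalizedModule.map_mk, LocalizedModule.map_mk]
          rw [show π (f m) = s • m from LinearMap.congr_fun hπ m, ← LocalizedModule.smul'_mk,
            ← algebraMap_smul L s, smul_smul, show ((w⁻¹ : Lˣ) : L) * algebraMap B L s = 1 from w.inv_mul,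
            one_smul])
    haveI : Module.Free L KQ := Module.free_of_flat_of_isLocalRing
    haveI : Nontrivial KQ := Module.mem_support_iff.1 (Module.mem_support_iff_of_finite.2 haQ)
    let b := Module.Free.chooseBasis L KQ
    obtain ⟨i⟩ := b.index_nonempty
    have h0 : algebraMap B L a • b i = 0 := by
      rw [algebraMap_smul]
      induction b i using LocalizedModule.induction_on with
      | _ m t => rw [LocalizedModule.smul'_mk, Module.mem_annihilator.1 ha m, LocalizedModule.zero_mk]
    have h1 : algebraMap B L a = 0 := by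
      have h2 := congrArg (fun z => b.repr z i) h0
      simpa only [map_smul, map_zero, Finsupp.smul_apply, Module.Basis.repr_self, Finsupp.single_eq_same, smul_eq_mul,
        mul_one, Finsupp.zero_apply] using h2
    obtain ⟨⟨t, ht⟩, hta⟩ := (IsLocalization.map_eq_zero_iff Q.asIdeal.primeCompl L a).1 h1
    exact ⟨t, ht, hta⟩
  have hrad : J ≤ (𝔞 ⊔ 𝔟).radical := by
    intro x hx
    rw [Ideal.radical_eq_sInf]
    refine Ideal.mem_sInf.mpr fun {Q} hQ => ?_
    by_contra hxQ
    haveI := hQ.2
    obtain ⟨n, g, hg⟩ := Submodule.fg_iff_exists_fin_generating_family.1 (IsNoetherian.noetherian 𝔞)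
    have hgm : ∀ i, g i ∈ 𝔞 := fun i => hg ▸ Submodule.subset_span (Set.mem_range_self i)
    choose t ht hta using fun i => hfree ⟨Q, hQ.2⟩ (fun h => hxQ (h hx)) (le_sup_left.trans hQ.1) (g i) (hgm i)
    refine (Submonoid.prod_mem Q.primeCompl (t := Finset.univ) fun i _ => ht i) (hQ.1 (le_sup_right (a := 𝔞) ?_))
    refine Module.mem_annihilator.2 ?_
    rintro ⟨a, ha⟩
    refine Subtype.ext ?_
    show (∏ i, t i) * a = 0
    rw [← hg] at ha
    obtain ⟨c, rfl⟩ := (Submodule.mem_span_range_iff_exists_fun B).1 ha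
    rw [Finset.mul_sum]
    refine Finset.sum_eq_zero fun i _ => ?_
    rw [← Finset.prod_erase_mul _ _ (Finset.mem_univ i), smul_eq_mul, mul_mul_mul_comm, hta, mul_zero]
  have hinter : ∀ x ∈ 𝔞, x ∈ 𝔟 → x = 0 := by
    intro x hxa hxb
    let T : Ideal B := (Submodule.span B {x}).annihilator
    have hT : ∀ Q : PrimeSpectrum B, ¬ J ≤ Q.asIdeal → ¬ T ≤ Q.asIdeal := fun Q hQ hTQ => by
      by_cases haQ : 𝔞 ≤ Q.asIdeal
      · obtain ⟨s, hs, hsx⟩ := hfree Q hQ haQ x hxa
        exact hs (hTQ ((Submodule.mem_annihilator_span_singleton x s).2 hsx))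
      · obtain ⟨s, hsa, hs⟩ := SetLike.not_le_iff_exists.1 haQ
        refine hs (hTQ ((Submodule.mem_annihilator_span_singleton x s).2 ?_))
        have := congrArg Subtype.val (Module.mem_annihilator.1 hxb ⟨s, hsa⟩)
        show s * x = 0
        rw [mul_comm]
        exact this
    have hJT : J ≤ T.radical := by
      intro y hy
      rw [Ideal.radical_eq_sInf]
      refine Ideal.mem_sInf.mpr fun {Q} hQ => ?_
      by_contra hyQ
      exact hT ⟨Q, hQ.2⟩ (fun h => hyQ (h hy)) hQ.1
    obtain ⟨N, hN⟩ := Ideal.exists_pow_le_of_le_radical_of_fg hJT (IsNoetherian.noetherian J)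
    refine (QDepth.two_pow J hB (N + 1) (Nat.succ_ne_zero N)).zero x fun c hc => ?_
    exact (Submodule.mem_annihilator_span_singleton x c).1 (hN (Ideal.pow_le_pow_right (Nat.le_succ N) hc))
  obtain ⟨M, hM⟩ := Ideal.exists_pow_le_of_le_radical_of_fg hrad (IsNoetherian.noetherian J)
  have hJM := QDepth.two_pow J hB (M + 1) (Nat.succ_ne_zero M)
  have hKM := QDepth.two_pow J hK (M + 1) (Nat.succ_ne_zero M)
  choose a ha b hb hab using fun c : (J ^ (M + 1) : Ideal B) =>
    Submodule.mem_sup.1 (hM (Ideal.pow_le_pow_right (Nat.le_succ M) c.2))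
  have hun : ∀ {a₁ b₁ a₂ b₂ : B}, a₁ ∈ 𝔞 → b₁ ∈ 𝔟 → a₂ ∈ 𝔞 → b₂ ∈ 𝔟 → a₁ + b₁ = a₂ + b₂ → a₁ = a₂ := by
    intro a₁ b₁ a₂ b₂ h1 h2 h3 h4 h
    refine sub_eq_zero.1 (hinter _ (sub_mem h1 h3) ?_)
    rw [show a₁ - a₂ = b₂ - b₁ by linear_combination h]
    exact sub_mem h4 h2
  obtain ⟨e, he⟩ := hJM.ext
    { toFun := a
      map_add' := fun c d => hun (ha _) (hb _) (add_mem (ha c) (ha d)) (add_mem (hb c) (hb d)) (by
        rw [hab, Submodule.coe_add, add_add_add_comm, hab, hab])
      map_smul' := fun r c => hun (ha (r • c)) (hb (r • c)) (Ideal.mul_mem_left _ r (ha c)) (Ideal.mul_mem_left _ r (hb c)) (by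
        simp only [hab, SetLike.val_smul, smul_eq_mul, RingHom.id_apply, ← mul_add]) }
  replace he : ∀ c : (J ^ (M + 1) : Ideal B), a c = c.1 * e := he
  by_cases heq : e ∈ q.asIdeal
  · refine Or.inr fun Q hQq => Module.mem_support_iff_of_finite.2 fun r hr => ?_
    have h1 : (1 - e) * r = 0 := hJM.zero _ fun c hc => by
      have h2 : b ⟨c, hc⟩ = c * (1 - e) := by
        have := hab ⟨c, hc⟩
        rw [he] at this
        linear_combination this
      have h3 := congrArg Subtype.val (Module.mem_annihilator.1 (hb ⟨c, hc⟩) ⟨r, hr⟩)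
      show c * ((1 - e) * r) = 0
      rw [← mul_assoc, ← h2]
      exact h3
    have h0 : (1 - e) * r ∈ Q.asIdeal := by rw [h1]; exact Q.asIdeal.zero_mem
    refine (Q.isPrime.mem_or_mem h0).resolve_left fun h => q.isPrime.ne_top ((Ideal.eq_top_iff_one _).2 ?_)
    have := add_mem (hQq h) heq
    rwa [sub_add_cancel] at this
  · refine Or.inl fun x => ⟨e, heq, hKM.zero _ fun c hc => ?_⟩
    rw [smul_smul, ← he ⟨c, hc⟩]
    exact Module.mem_annihilator.1 (ha _) x

end Support

section Point

variable {A B : Type u} [CommRing A] [CommRing B] [IsNoetherianRing A] [IsNoetherianRing B]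
  [Algebra A B] [Module.Flat A B] (J : Ideal B) {K E0 E1 G : Type u}
  [AddCommGroup K] [Module B K] [Module A K] [IsScalarTower A B K] [Module.Finite B K]
  [AddCommGroup E0] [Module B E0] [Module A E0] [IsScalarTower A B E0] [Module.Finite B E0]
  [Module.Projective B E0]
  [AddCommGroup E1] [Module B E1] [Module A E1] [IsScalarTower A B E1] [Module.Finite B E1]
  [Module.Projective B E1]
  [AddCommGroup G] [Module B G] [Module A G] [IsScalarTower A B G] [Module.Finite B G]

/-- The cokernel is flat at `q` exactly when the kernel is flat with `(S₂)` fibre there. -/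
theorem flatAt_and_hasSk_iff (f : K →ₗ[B] E0) (u : E0 →ₗ[B] E1) (v : E1 →ₗ[B] G) (hf : Function.Injective f)
    (hfu : Function.Exact f u) (huv : Function.Exact u v) (hv : Function.Surjective v)
    (hGU : ∀ q : PrimeSpectrum B, ¬ J ≤ q.asIdeal → Module.Flat A (LocalizedModule q.asIdeal.primeCompl G))
    (hB : QDepth.Two J B) (hK : QDepth.Two J K)
    (hsplit : ∀ Q : PrimeSpectrum B, ¬ J ≤ Q.asIdeal → ∃ s, s ∉ Q.asIdeal ∧ ∃ π : E0 →ₗ[B] K, π ∘ₗ f = s • LinearMap.id)
    (q : PrimeSpectrum B)
    (hd : ∀ (P : Type u) [AddCommGroup P] [Module B P] [Module.Finite B P] [Module.Projective B P],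
      2 ≤ LocCoh.idealDepth (J.map (algebraMap B (EGA4.FibLocRing A B q.asIdeal))) (EGA4.FibLocMod A B q.asIdeal P))
    (hD : LocCoh.HasSk 2 (EGA4.FibLocRing A B q.asIdeal) (EGA4.FibLocRing A B q.asIdeal)) :
    (Module.Flat A (LocalizedModule q.asIdeal.primeCompl K) ∧
        LocCoh.HasSk 2 (EGA4.FibLocRing A B q.asIdeal) (EGA4.FibLocMod A B q.asIdeal K)) ↔
      Module.Flat A (LocalizedModule q.asIdeal.primeCompl G) := by
  let W := q.asIdeal.primeCompl
  let L := Localization.AtPrime q.asIdeal
  let p := q.asIdeal.comap (algebraMap A B)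
  let 𝔭 : Ideal L := p.map (algebraMap A L)
  let D := EGA4.FibLocRing A B q.asIdeal
  haveI : IsNoetherianRing L := IsLocalization.isNoetherianRing W _ inferInstance
  haveI : IsNoetherianRing D := inferInstanceAs (IsNoetherianRing (L ⧸ 𝔭))
  haveI hE0 : Module.Flat A E0 := Module.Flat.trans A B E0
  haveI hE1 : Module.Flat A E1 := Module.Flat.trans A B E1
  haveI : Module.Finite D (EGA4.FibLocMod A B q.asIdeal K) := Module.Finite.of_restrictScalars_finite L D _
  constructor
  · rintro ⟨-, hS⟩
    refine (QDepth.flatAt_coker_iff (A := A) J f u v hf hfu huv hv hGU q (hd E0) (le_trans one_le_two (hd E1))).1 ?_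
    rcases zero_or_faithful J hB hK f hsplit q with h | h
    · haveI : Subsingleton (LocalizedModule W K) := LocalizedModule.subsingleton_iff.2 fun x => by
        obtain ⟨s, hs, hsx⟩ := h x
        exact ⟨s, hs, hsx⟩
      rw [Depth.Basic.idealDepth_subsingleton (M := EGA4.FibLocMod A B q.asIdeal K)]
      exact le_top
    · refine two_le_of_hasSk _ ?_ hS fun P => ?_
      · have h2 := hd B
        rwa [Depth.Basic.idealDepth_congr _ (QDepth.fibLocRingEquiv A B q.asIdeal)] at h2
      · let P₀ : PrimeSpectrum L := PrimeSpectrum.comap (Ideal.Quotient.mk 𝔭) P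
        have hP₀ : P₀ ∈ Module.support L (LocalizedModule W K ⧸ (𝔭 • (⊤ : Submodule L (LocalizedModule W K)))) := by
          rw [Module.support_quotient]
          refine ⟨(DMod.SupportDim.comap_mem_support_iff q K P₀).2 (h _ ?_), fun x hx => ?_⟩
          · show PrimeSpectrum.comap (algebraMap B L) P₀ ≤ q
            intro x hx
            by_contra hxq
            exact P₀.isPrime.ne_top (P₀.asIdeal.eq_top_of_isUnit_mem hx
              (IsLocalization.map_units L (⟨x, hxq⟩ : W)))
          · show Ideal.Quotient.mk 𝔭 x ∈ P.asIdeal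
            rw [Ideal.Quotient.eq_zero_iff_mem.2 hx]
            exact P.asIdeal.zero_mem
        obtain ⟨m, hm⟩ := Module.mem_support_iff'.1 hP₀
        refine Module.mem_support_iff'.2 ⟨m, fun r hr => ?_⟩
        obtain ⟨r, rfl⟩ := Ideal.Quotient.mk_surjective r
        exact hm r hr
  · intro hG
    haveI := hG
    haveI := QDepth.flat_localized (A := A) W E0
    haveI := QDepth.flat_localized (A := A) W E1
    let f' := LocalizedModule.map W f
    let u' := LocalizedModule.map W u
    let v' := LocalizedModule.map W v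
    have x1 : Function.Injective f' := LocalizedModule.map_injective W f hf
    have x2 : Function.Exact f' u' := LocalizedModule.map_exact W f u hfu
    have x3 : Function.Exact u' v' := LocalizedModule.map_exact W u v huv
    have x4 : Function.Surjective v' := LocalizedModule.map_surjective W v hv
    refine ⟨QDepth.flat_kernel_of_flat (A := A) f' u' v' x1 x2 x3 x4, ?_⟩
    obtain ⟨hi, he⟩ := quot_exact (A := A) f' u' v' x1 x2 x3 x4 p
    have hproj : ∀ (P : Type u) [AddCommGroup P] [Module B P] [Module.Projective B P],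
        Module.Projective D (EGA4.FibLocMod A B q.asIdeal P) := by
      intro P _ _ _
      haveI : Module.Projective L (LocalizedModule W P) :=
        Module.Projective.of_equiv (IsLocalizedModule.isBaseChange W L (LocalizedModule.mkLinearMap W P)).equiv
      exact Module.Projective.of_equiv (LinearEquiv.extendScalarsOfSurjective (R := L) Ideal.Quotient.mk_surjective
        ((TensorProduct.quotTensorEquivQuotSMul (LocalizedModule W P) 𝔭).restrictScalars L :
          ((L ⧸ 𝔭) ⊗[L] LocalizedModule W P) ≃ₗ[L] _))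
    haveI := hproj E0
    haveI := hproj E1
    haveI : Module.Finite D (EGA4.FibLocMod A B q.asIdeal E0) := Module.Finite.of_restrictScalars_finite L D _
    haveI : Module.Finite D (EGA4.FibLocMod A B q.asIdeal E1) := Module.Finite.of_restrictScalars_finite L D _
    have hle : ∀ {X Y : Type u} [AddCommGroup X] [Module B X] [AddCommGroup Y] [Module B Y]
        (g : LocalizedModule W X →ₗ[L] LocalizedModule W Y),
        𝔭 • (⊤ : Submodule L (LocalizedModule W X)) ≤ (𝔭 • (⊤ : Submodule L (LocalizedModule W Y))).comap g := by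
      intro X Y _ _ _ _ g
      rw [← Submodule.map_le_iff_le_comap, Submodule.map_smul'']
      exact Submodule.smul_mono le_rfl le_top
    let f₀ : EGA4.FibLocMod A B q.asIdeal K →ₗ[D] EGA4.FibLocMod A B q.asIdeal E0 :=
      LinearMap.extendScalarsOfSurjective (R := L) Ideal.Quotient.mk_surjective (Submodule.mapQ _ _ f' (hle f'))
    let u₀ : EGA4.FibLocMod A B q.asIdeal E0 →ₗ[D] EGA4.FibLocMod A B q.asIdeal E1 :=
      LinearMap.extendScalarsOfSurjective (R := L) Ideal.Quotient.mk_surjective (Submodule.mapQ _ _ u' (hle u'))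
    refine hasSk_two_kernel f₀ u₀ ?_ ?_ hD
    · refine (injective_iff_map_eq_zero f₀).2 fun z hz => ?_
      obtain ⟨x, rfl⟩ := Submodule.Quotient.mk_surjective _ z
      exact (Submodule.Quotient.mk_eq_zero _).2 (hi x ((Submodule.Quotient.mk_eq_zero _).1 hz))
    · intro z
      obtain ⟨y, rfl⟩ := Submodule.Quotient.mk_surjective _ z
      constructor
      · intro hz
        obtain ⟨x, hx⟩ := he y ((Submodule.Quotient.mk_eq_zero _).1 hz)
        exact ⟨Submodule.Quotient.mk x, ((Submodule.Quotient.eq _).2 hx).symm⟩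
      · rintro ⟨z, hz⟩
        obtain ⟨x, rfl⟩ := Submodule.Quotient.mk_surjective _ z
        rw [← hz]
        show Submodule.Quotient.mk (u' (f' x)) = 0
        rw [x2.apply_apply_eq_zero, Submodule.Quotient.mk_zero]

end Point

/-- The relative `(S₂)` refinement is governed by the flattening ideal of the cokernel. -/
theorem exists_ideal (R C : Type u) [CommRing R] [CommRing C]
    [IsNoetherianRing R] [HenselianLocalRing R] [IsNoetherianRing C] [Algebra R C] [Module.Flat R C]
    (hft : Algebra.FiniteType R C)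
    (hS2 : ∀ q : PrimeSpectrum C, LocCoh.HasSk 2 (EGA4.FibLocRing R C q.asIdeal) (EGA4.FibLocRing R C q.asIdeal))
    (F : Type u) [AddCommGroup F] [Module C F] [Module.Finite C F] [Module.IsReflexive C F] (J : Ideal C)
    (hFU : ∀ q : PrimeSpectrum C, ¬ J ≤ q.asIdeal → Module.Free (Localization.AtPrime q.asIdeal) (LocalizedModule q.asIdeal.primeCompl F))
    (hcodim : ∀ q : PrimeSpectrum C, J ≤ q.asIdeal → (2 : WithBot ℕ∞) ≤ ringKrullDim (EGA4.FibLocRing R C q.asIdeal))
    (n : PrimeSpectrum C) (hn : (maximalIdeal R).map (algebraMap R C) ≤ n.asIdeal) :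
    ∃ 𝔞 : Ideal R, ∀ (R' : Type u) [CommRing R'] [IsNoetherianRing R'] [IsLocalRing R'] [Algebra R R'],
      IsLocalHom (algebraMap R R') →
      ∀ (C' : Type u) [CommRing C'] [IsNoetherianRing C'] [Algebra C C'] [Algebra R' C'] [Algebra R C']
        [IsScalarTower R C C'] [IsScalarTower R R' C'], Algebra.IsPushout R C R' C' →
        ((∀ q' : PrimeSpectrum C', q'.asIdeal.comap (algebraMap C C') = n.asIdeal →
            (maximalIdeal R').map (algebraMap R' C') ≤ q'.asIdeal →
            FlatCA.FlatAt R' q'.asIdeal (Module.Dual C' (Module.Dual C' (C' ⊗[C] F))) ∧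
            LocCoh.HasSk 2 (EGA4.FibLocRing R' C' q'.asIdeal)
              (EGA4.FibLocMod R' C' q'.asIdeal (Module.Dual C' (Module.Dual C' (C' ⊗[C] F))))) ↔
          𝔞.map (algebraMap R R') = ⊥) := by
  haveI := hft
  obtain ⟨k, l, g, h, hg, hgh, hfree⟩ := QDepth.exists_presentation (B := C) F
  let E0 := Fin k → C
  let E1 := Fin l → C
  let G := E1 ⧸ LinearMap.range h
  let v : E1 →ₗ[C] G := (LinearMap.range h).mkQ
  have hv : Function.Surjective v := Submodule.mkQ_surjective _
  have huv : Function.Exact h v := LinearMap.exact_map_mkQ_range h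
  have hGfree : ∀ q : PrimeSpectrum C, ¬ J ≤ q.asIdeal →
      Module.Free (Localization.AtPrime q.asIdeal) (LocalizedModule q.asIdeal.primeCompl G) :=
    fun q hq => hfree q.asIdeal (hFU q hq)
  have hZ := Fibres.two_le_fibres R C J hS2 hcodim
  haveI : n.asIdeal.LiesOver (maximalIdeal R) := ⟨(IsLocalRing.maximalIdeal.isMaximal R).eq_of_le
    (Ideal.IsPrime.ne_top inferInstance) (Ideal.map_le_iff_le_comap.1 hn)⟩
  obtain ⟨𝔞, hI, -⟩ := FlatPtsInduct.exists_ideal (A := R) G n.asIdeal
  refine ⟨𝔞, fun R' _ _ _ _ hloc C' _ _ _ _ _ _ _ hpo => ?_⟩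
  haveI := hloc
  haveI := hpo
  haveI : Algebra.IsPushout R R' C C' := Algebra.IsPushout.symm hpo
  haveI : Module.Flat R' C' :=
    Module.Flat.isBaseChange R R' C C' (Algebra.IsPushout.symm inferInstance : Algebra.IsPushout R R' C C').out
  rw [← hI R', FlatPts.iff_model (R := R) (q := n.asIdeal) (N := G) C' (C' ⊗[C] G) (TensorProduct.mk C C' G 1)
    (TensorProduct.isBaseChange C G C')]
  obtain ⟨-, hB'⟩ := QDepth.two_ring_baseChange J hZ R' C'
  obtain ⟨N, hN, hgen⟩ := QDepth.exists_genInverse J h v huv hv hGfree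
  let J' := J.map (algebraMap C C')
  let u' := h.baseChange C'
  let v' := v.baseChange C'
  let K := LinearMap.ker u'
  let F' := C' ⊗[C] F
  have hv' : Function.Surjective v' := LinearMap.lTensor_surjective C' hv
  have huv' : Function.Exact u' v' := lTensor_exact C' huv hv
  have hK : QDepth.Two J' K := (hB'.of_projective (C' ⊗[C] E0)).ker (hB'.of_projective (C' ⊗[C] E1)).zero u'
  -- the comparison of the base changed module with the kernel
  let θ : F' →ₗ[C'] K := LinearMap.codRestrict K (g.baseChange C') fun x => by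
    rw [LinearMap.mem_ker, ← LinearMap.comp_apply, ← LinearMap.baseChange_comp,
      show h ∘ₗ g = 0 from LinearMap.ext fun y => hgh.apply_apply_eq_zero y, LinearMap.baseChange_zero,
      LinearMap.zero_apply]
  let eF : F ≃ₗ[C] LinearMap.ker h :=
    LinearEquiv.ofInjective g hg ≪≫ₗ LinearEquiv.ofEq _ _ (LinearMap.exact_iff.mp hgh).symm
  have hθ : QDepth.InvUpTo (X := F') (Y := ↥K) (J' ^ N) θ := by
    rw [show J' ^ N = Ideal.span (algebraMap C C' '' (J ^ N : Ideal C)) from (Ideal.map_pow _ _ _).symm]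
    refine QDepth.invUpTo_span _ ?_
    rintro _ ⟨c, hc, rfl⟩
    obtain ⟨w, hw⟩ := hgen c hc
    let π₀ : E0 →ₗ[C] F := eF.symm.toLinearMap ∘ₗ
      LinearMap.codRestrict (LinearMap.ker h) (c • LinearMap.id - w ∘ₗ h) (fun x => by
        rw [LinearMap.mem_ker, LinearMap.sub_apply, map_sub, LinearMap.smul_apply, map_smul, LinearMap.id_apply,
          LinearMap.comp_apply, show h (w (h x)) = c • h x from LinearMap.congr_fun hw x, sub_self])
    have hgπ : g ∘ₗ π₀ = c • LinearMap.id - w ∘ₗ h := LinearMap.ext fun x => by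
      show g (eF.symm _) = _
      exact congrArg Subtype.val (eF.apply_symm_apply
        (LinearMap.codRestrict (LinearMap.ker h) (c • LinearMap.id - w ∘ₗ h) _ x))
    have hπg : π₀ ∘ₗ g = c • LinearMap.id := LinearMap.ext fun x => hg (by
      rw [LinearMap.comp_apply, ← LinearMap.comp_apply g π₀, hgπ, LinearMap.sub_apply, LinearMap.smul_apply,
        LinearMap.id_apply, LinearMap.comp_apply, hgh.apply_apply_eq_zero, map_zero, sub_zero,
        LinearMap.smul_apply, LinearMap.id_apply, map_smul])
    refine ⟨π₀.baseChange C' ∘ₗ K.subtype, fun y => Subtype.ext ?_, fun x => ?_⟩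
    · show (g.baseChange C') ((π₀.baseChange C') y.1) = _
      rw [← LinearMap.comp_apply, ← LinearMap.baseChange_comp, hgπ, LinearMap.baseChange_sub,
        LinearMap.baseChange_smul, LinearMap.baseChange_comp, LinearMap.baseChange_id, LinearMap.sub_apply,
        LinearMap.comp_apply, show u' y.1 = 0 from y.2, map_zero, sub_zero, LinearMap.smul_apply, LinearMap.id_apply,
        SetLike.val_smul, algebraMap_smul]
    · show (π₀.baseChange C') ((g.baseChange C') x) = _
      rw [← LinearMap.comp_apply, ← LinearMap.baseChange_comp, hπg, LinearMap.baseChange_smul,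
        LinearMap.baseChange_id, LinearMap.smul_apply, LinearMap.id_apply, algebraMap_smul]
  haveI : Module.IsReflexive C' K :=
    QDepth.isReflexive_of_two hN (QDepth.invUpTo_eval_ker J h N hgen C') hB' hK
  have hd0 : Function.Bijective θ.dualMap :=
    hθ.comp_bijective (QDepth.two_pow _ hB' N hN)
  let DD := Module.Dual C' (Module.Dual C' F')
  let e : DD ≃ₗ[C'] K := (LinearEquiv.ofBijective θ.dualMap hd0).dualMap ≪≫ₗ (Module.evalEquiv C' K).symm
  let f : DD →ₗ[C'] C' ⊗[C] E0 := K.subtype ∘ₗ e.toLinearMap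
  have hf : Function.Injective f := Subtype.val_injective.comp e.injective
  have hfu : Function.Exact f u' := fun y => ⟨fun hy => ⟨e.symm ⟨y, hy⟩, by simp [f]⟩, by
    rintro ⟨x, rfl⟩
    exact (e x).2⟩
  have hsplit : ∀ Q : PrimeSpectrum C', ¬ J' ≤ Q.asIdeal →
      ∃ s, s ∉ Q.asIdeal ∧ ∃ π : C' ⊗[C] E0 →ₗ[C'] DD, π ∘ₗ f = s • LinearMap.id := by
    intro Q hQ
    have hQ' : ¬ J ^ N ≤ Q.asIdeal.comap (algebraMap C C') := fun hh =>
      hQ (Ideal.map_le_iff_le_comap.mpr (Ideal.IsPrime.le_of_pow_le hh))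
    obtain ⟨c, hc, hcQ⟩ := SetLike.not_le_iff_exists.mp hQ'
    obtain ⟨w, hw⟩ := hgen c hc
    let w' := w.baseChange C'
    have hw' : u' ∘ₗ w' ∘ₗ u' = algebraMap C C' c • u' := by
      rw [← LinearMap.baseChange_comp, ← LinearMap.baseChange_comp, hw, LinearMap.baseChange_smul,
        algebraMap_smul]
    refine ⟨algebraMap C C' c, hcQ, e.symm.toLinearMap ∘ₗ
      LinearMap.codRestrict K (algebraMap C C' c • LinearMap.id - w' ∘ₗ u') (fun x => by
        rw [LinearMap.mem_ker, LinearMap.sub_apply, map_sub, LinearMap.smul_apply, map_smul, LinearMap.id_apply,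
          LinearMap.comp_apply, show u' (w' (u' x)) = algebraMap C C' c • u' x from LinearMap.congr_fun hw' x,
          sub_self]), LinearMap.ext fun z => e.injective ?_⟩
    simp only [LinearMap.comp_apply, LinearEquiv.coe_coe, e.apply_symm_apply, LinearMap.smul_apply, LinearMap.id_apply,
      map_smul]
    refine Subtype.ext ?_
    show algebraMap C C' c • (e z).1 - w' (u' (e z).1) = algebraMap C C' c • (e z).1
    rw [show u' (e z).1 = 0 from (e z).2, map_zero, sub_zero]
  have hKD : QDepth.Two J' DD := hB'.hom _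
  haveI : Module.Finite C' DD := Module.Finite.equiv e.symm
  have hGU : ∀ q : PrimeSpectrum C', ¬ J' ≤ q.asIdeal →
      Module.Flat R' (LocalizedModule q.asIdeal.primeCompl (C' ⊗[C] G)) := by
    intro q hq
    let q₀ := PrimeSpectrum.comap (algebraMap C C') q
    haveI := hGfree q₀ fun hh => hq (Ideal.map_le_iff_le_comap.mpr hh)
    let L₀ := Localization.AtPrime q₀.asIdeal
    let L := Localization.AtPrime q.asIdeal
    letI : Algebra L₀ L := (Localization.localRingHom q₀.asIdeal q.asIdeal (algebraMap C C') rfl).toAlgebra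
    haveI : IsScalarTower C L₀ L := IsScalarTower.of_algebraMap_eq fun a => by
      rw [RingHom.algebraMap_toAlgebra, Localization.localRingHom_to_map]
      exact IsScalarTower.algebraMap_apply C C' L a
    haveI : Module.Projective L (L ⊗[C] G) := by
      haveI : Module.Projective L₀ (L₀ ⊗[C] G) := Module.Projective.of_equiv
        (IsLocalizedModule.isBaseChange q₀.asIdeal.primeCompl L₀ (LocalizedModule.mkLinearMap q₀.asIdeal.primeCompl G)).equiv.symm
      exact Module.Projective.of_equiv (TensorProduct.AlgebraTensorModule.cancelBaseChange C L₀ L L G)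
    haveI : Module.Projective L (LocalizedModule q.asIdeal.primeCompl (C' ⊗[C] G)) := Module.Projective.of_equiv
      ((TensorProduct.AlgebraTensorModule.cancelBaseChange C C' L L G).symm ≪≫ₗ
        (IsLocalizedModule.isBaseChange q.asIdeal.primeCompl L
          (LocalizedModule.mkLinearMap q.asIdeal.primeCompl (C' ⊗[C] G))).equiv)
    haveI : Module.Flat R' L := Module.Flat.trans R' C' L
    exact Module.Flat.trans R' L _
  refine ⟨fun hall Q hQ hQn hQm => ?_, fun hall q' hq'n hq'm => ?_⟩
  · refine (flatAt_and_hasSk_iff (A := R') J' f u' v' hf hfu huv' hv' hGU hB' hKD hsplit ⟨Q, hQ⟩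
      (fun P _ _ _ _ => QDepth.two_le_fibLocMod_projective J hZ P ⟨Q, hQ⟩)
      (Fibres.hasSk_fibLocRing_baseChange 2 R C R' C' (fun q _ => hS2 ⟨q, inferInstance⟩) Q)).1 ?_
    exact hall ⟨Q, hQ⟩ hQn (Ideal.map_le_iff_le_comap.2 hQm.ge)
  · have hQm : q'.asIdeal.comap (algebraMap R' C') = maximalIdeal R' :=
      ((IsLocalRing.maximalIdeal.isMaximal R').eq_of_le (Ideal.IsPrime.ne_top inferInstance)
        (Ideal.map_le_iff_le_comap.1 hq'm)).symm
    exact (flatAt_and_hasSk_iff (A := R') J' f u' v' hf hfu huv' hv' hGU hB' hKD hsplit q'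
      (fun P _ _ _ _ => QDepth.two_le_fibLocMod_projective J hZ P q')
      (Fibres.hasSk_fibLocRing_baseChange 2 R C R' C' (fun q _ => hS2 ⟨q, inferInstance⟩) q'.asIdeal)).2
      (hall q'.asIdeal hq'n hQm)

end Groth.Agent.Lib.RG57.RelS2.Main
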