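import Groth.Agent.Lib.RG57.RelS2.Main
import Groth.Agent.Lib.RG57.RelS2.Depth
import Groth.Agent.Lib.EGA75.SkQuotient

/-!
# From an `(S₂)` fibre of the double dual to flatness of the cokernel, at one point
-/

set_option autoImplicit false
set_option linter.style.haveILetI false
set_option maxHeartbeats 400000

universe u

open IsLocalRing LocCoh
open scoped TensorProduct
open Groth.Agent.Lib

namespace Groth.Agent.Lib.RG57.RelS2.Point

section General

variable {B : Type u} [CommRing B]

/-- The dual of a map invertible up to an ideal is invertible up to it. -/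
theorem invUpTo_dualMap {X Y : Type u} [AddCommGroup X] [Module B X] [AddCommGroup Y] [Module B Y] (I : Ideal B)
    (e : X →ₗ[B] Y) (he : QDepth.InvUpTo I e) : QDepth.InvUpTo I e.dualMap := by
  intro c hc
  obtain ⟨g, h1, h2⟩ := he c hc
  refine ⟨g.dualMap, fun φ => LinearMap.ext fun x => ?_, fun ψ => LinearMap.ext fun y => ?_⟩
  · show φ (g (e x)) = c • φ x
    rw [h2, map_smul]
  · show ψ (e (g y)) = c • ψ y
    rw [h1, map_smul]

/-- The dual of a finite module over a Noetherian ring is finite. -/
theorem finite_dual [IsNoetherianRing B] (X : Type u) [AddCommGroup X] [Module B X] [Module.Finite B X] :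
    Module.Finite B (Module.Dual B X) := by
  obtain ⟨a, π, hπ⟩ := Module.Finite.exists_fin' B X
  exact Module.Finite.of_injective (LinearMap.lcomp B B π) (LinearMap.lcomp_injective_of_surjective _ hπ)

variable (q : Ideal B) [q.IsPrime]

/-- Localizing a map invertible up to an ideal. -/
theorem invUpTo_localized {X Y : Type u} [AddCommGroup X] [Module B X] [AddCommGroup Y] [Module B Y] (I : Ideal B)
    (e : X →ₗ[B] Y) (he : QDepth.InvUpTo I e) :
    QDepth.InvUpTo (I.map (algebraMap B (Localization.AtPrime q))) (LocalizedModule.map q.primeCompl e) := by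
  refine QDepth.invUpTo_span _ ?_
  rintro _ ⟨c, hc, rfl⟩
  obtain ⟨g, h1, h2⟩ := he c hc
  refine ⟨LocalizedModule.map q.primeCompl g, fun y => ?_, fun x => ?_⟩
  · induction y using LocalizedModule.induction_on with
    | _ m t =>
      erw [LocalizedModule.map_mk, LocalizedModule.map_mk]
      rw [h1, algebraMap_smul, LocalizedModule.smul'_mk]
  · induction x using LocalizedModule.induction_on with
    | _ m t =>
      erw [LocalizedModule.map_mk, LocalizedModule.map_mk]
      rw [h2, algebraMap_smul, LocalizedModule.smul'_mk]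

variable {J : Ideal (Localization.AtPrime q)}

/-- A kernel of finite projective modules, localized, has property `Two`. -/
theorem two_localized_of_exact {M P0 P1 : Type u} [AddCommGroup M] [Module B M] [AddCommGroup P0] [Module B P0]
    [Module.Finite B P0] [Module.Projective B P0] [AddCommGroup P1] [Module B P1] [Module.Finite B P1]
    [Module.Projective B P1] (f : M →ₗ[B] P0) (u : P0 →ₗ[B] P1) (hf : Function.Injective f)
    (hfu : Function.Exact f u) (hL : QDepth.Two J (Localization.AtPrime q)) :
    QDepth.Two J (LocalizedModule q.primeCompl M) := by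
  let L := Localization.AtPrime q
  haveI : Module.Projective L (LocalizedModule q.primeCompl P0) :=
    Module.Projective.of_equiv (IsLocalizedModule.isBaseChange q.primeCompl L (LocalizedModule.mkLinearMap q.primeCompl P0)).equiv
  haveI : Module.Projective L (LocalizedModule q.primeCompl P1) :=
    Module.Projective.of_equiv (IsLocalizedModule.isBaseChange q.primeCompl L (LocalizedModule.mkLinearMap q.primeCompl P1)).equiv
  haveI : Module.Finite L (LocalizedModule q.primeCompl P0) :=
    Module.Finite.of_isLocalizedModule q.primeCompl (Rₚ := L) (LocalizedModule.mkLinearMap q.primeCompl P0)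
  haveI : Module.Finite L (LocalizedModule q.primeCompl P1) :=
    Module.Finite.of_isLocalizedModule q.primeCompl (Rₚ := L) (LocalizedModule.mkLinearMap q.primeCompl P1)
  let f' := LocalizedModule.map q.primeCompl f
  let u' := LocalizedModule.map q.primeCompl u
  have x1 : Function.Injective f' := LocalizedModule.map_injective _ f hf
  have x2 : Function.Exact f' u' := LocalizedModule.map_exact _ f u hfu
  exact ((hL.of_projective _).ker (hL.of_projective (LocalizedModule q.primeCompl P1)).zero u').of_equiv
    (LinearEquiv.ofInjective f' x1 ≪≫ₗ LinearEquiv.ofEq _ _ (LinearMap.exact_iff.mp x2).symm).symm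

/-- A localized dual has property `Two`. -/
theorem two_localized_dual [IsNoetherianRing B] (X : Type u) [AddCommGroup X] [Module B X] [Module.Finite B X]
    (hL : QDepth.Two J (Localization.AtPrime q)) :
    QDepth.Two J (LocalizedModule q.primeCompl (Module.Dual B X)) := by
  obtain ⟨a, π, hπ⟩ := Module.Finite.exists_fin' B X
  obtain ⟨b, σ, hσ⟩ := Module.Finite.exists_fin' B (LinearMap.ker π)
  have hex : Function.Exact ((LinearMap.ker π).subtype ∘ₗ σ) π := by
    rw [LinearMap.exact_iff, LinearMap.range_comp, LinearMap.range_eq_top.mpr hσ, Submodule.map_top,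
      Submodule.range_subtype]
  exact two_localized_of_exact q (LinearMap.lcomp B B π) (LinearMap.lcomp B B ((LinearMap.ker π).subtype ∘ₗ σ))
    (LinearMap.lcomp_injective_of_surjective _ hπ) (LinearMap.exact_lcomp_of_exact_of_surjective (N := B) hex hπ) hL

/-- Isomorphic stalks have isomorphic fibre stalks. -/
theorem hasSk_fibLocMod_congr {A : Type u} [CommRing A] [Algebra A B] {k : ℕ} {M N : Type u}
    [AddCommGroup M] [Module B M] [AddCommGroup N] [Module B N]
    (e : LocalizedModule q.primeCompl M ≃ₗ[Localization.AtPrime q] LocalizedModule q.primeCompl N)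
    (h : LocCoh.HasSk k (EGA4.FibLocRing A B q) (EGA4.FibLocMod A B q M)) :
    LocCoh.HasSk k (EGA4.FibLocRing A B q) (EGA4.FibLocMod A B q N) := by
  let L := Localization.AtPrime q
  let 𝔭 : Ideal L := (q.comap (algebraMap A B)).map (algebraMap A L)
  have hmap : (𝔭 • (⊤ : Submodule L (LocalizedModule q.primeCompl M))).map e.toLinearMap =
      𝔭 • (⊤ : Submodule L (LocalizedModule q.primeCompl N)) := by
    rw [Submodule.map_smul'', Submodule.map_top, LinearEquiv.range]
  exact EGA75.SkQuotient.hasSk_congr (LinearEquiv.extendScalarsOfSurjective (R := L) Ideal.Quotient.mk_surjective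
    (Submodule.Quotient.equiv _ _ e hmap : EGA4.FibLocMod A B q M ≃ₗ[L] EGA4.FibLocMod A B q N)) h

/-- A flat cokernel makes the kernel flat with an `(S₂)` fibre. -/
theorem kernel_of_flat {A : Type u} [CommRing A] [IsNoetherianRing A] [IsNoetherianRing B] [Algebra A B]
    [Module.Flat A B] {K E0 E1 G : Type u}
    [AddCommGroup K] [Module B K] [Module A K] [IsScalarTower A B K] [Module.Finite B K]
    [AddCommGroup E0] [Module B E0] [Module A E0] [IsScalarTower A B E0] [Module.Finite B E0] [Module.Projective B E0]
    [AddCommGroup E1] [Module B E1] [Module A E1] [IsScalarTower A B E1] [Module.Finite B E1] [Module.Projective B E1]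
    [AddCommGroup G] [Module B G] [Module A G] [IsScalarTower A B G]
    (f : K →ₗ[B] E0) (u : E0 →ₗ[B] E1) (v : E1 →ₗ[B] G) (hf : Function.Injective f)
    (hfu : Function.Exact f u) (huv : Function.Exact u v) (hv : Function.Surjective v)
    (hD : LocCoh.HasSk 2 (EGA4.FibLocRing A B q) (EGA4.FibLocRing A B q))
    (hG : Module.Flat A (LocalizedModule q.primeCompl G)) :
    Module.Flat A (LocalizedModule q.primeCompl K) ∧
      LocCoh.HasSk 2 (EGA4.FibLocRing A B q) (EGA4.FibLocMod A B q K) := by
  let W := q.primeCompl
  let L := Localization.AtPrime q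
  let p := q.comap (algebraMap A B)
  let 𝔭 : Ideal L := p.map (algebraMap A L)
  let D := EGA4.FibLocRing A B q
  haveI : IsNoetherianRing L := IsLocalization.isNoetherianRing W _ inferInstance
  haveI : IsNoetherianRing D := inferInstanceAs (IsNoetherianRing (L ⧸ 𝔭))
  haveI hE0 : Module.Flat A E0 := Module.Flat.trans A B E0
  haveI hE1 : Module.Flat A E1 := Module.Flat.trans A B E1
  haveI : Module.Finite D (EGA4.FibLocMod A B q K) := Module.Finite.of_restrictScalars_finite L D _
  haveI := hG
  haveI := QDepth.flat_localized (A := A) W E0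
  haveI := QDepth.flat_localized (A := A) W E1
  let f' := LocalizedModule.map W f
  let u' := LocalizedModule.map W u
  let v' := LocalizedModule.map W v
  have x1 : Function.Injective f' := LocalizedModule.map_injective W f hf
  have x2 : Function.Exact f' u' := LocalizedModule.map_exact W f u hfu
  have x3 : Function.Exact u' v' := LocalizedModule.map_exact W u v huv
  have x4 : Function.Surjective v' := LocalizedModule.map_surjective W v hv
  refine ⟨QDepth.flat_kernel_of_flat (A := A) f' u' v' x1 x2 x3 x4, ?_⟩
  obtain ⟨hi, he⟩ := Main.quot_exact (A := A) f' u' v' x1 x2 x3 x4 p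
  have hproj : ∀ (P : Type u) [AddCommGroup P] [Module B P] [Module.Projective B P],
      Module.Projective D (EGA4.FibLocMod A B q P) := by
    intro P _ _ _
    haveI : Module.Projective L (LocalizedModule W P) :=
      Module.Projective.of_equiv (IsLocalizedModule.isBaseChange W L (LocalizedModule.mkLinearMap W P)).equiv
    exact Module.Projective.of_equiv (LinearEquiv.extendScalarsOfSurjective (R := L) Ideal.Quotient.mk_surjective
      ((TensorProduct.quotTensorEquivQuotSMul (LocalizedModule W P) 𝔭).restrictScalars L :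
        ((L ⧸ 𝔭) ⊗[L] LocalizedModule W P) ≃ₗ[L] _))
  haveI := hproj E0
  haveI := hproj E1
  haveI : Module.Finite D (EGA4.FibLocMod A B q E0) := Module.Finite.of_restrictScalars_finite L D _
  haveI : Module.Finite D (EGA4.FibLocMod A B q E1) := Module.Finite.of_restrictScalars_finite L D _
  have hle : ∀ {X Y : Type u} [AddCommGroup X] [Module B X] [AddCommGroup Y] [Module B Y]
      (g : LocalizedModule W X →ₗ[L] LocalizedModule W Y),
      𝔭 • (⊤ : Submodule L (LocalizedModule W X)) ≤ (𝔭 • (⊤ : Submodule L (LocalizedModule W Y))).comap g := by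
    intro X Y _ _ _ _ g
    rw [← Submodule.map_le_iff_le_comap, Submodule.map_smul'']
    exact Submodule.smul_mono le_rfl le_top
  let f₀ : EGA4.FibLocMod A B q K →ₗ[D] EGA4.FibLocMod A B q E0 :=
    LinearMap.extendScalarsOfSurjective (R := L) Ideal.Quotient.mk_surjective (Submodule.mapQ _ _ f' (hle f'))
  let u₀ : EGA4.FibLocMod A B q E0 →ₗ[D] EGA4.FibLocMod A B q E1 :=
    LinearMap.extendScalarsOfSurjective (R := L) Ideal.Quotient.mk_surjective (Submodule.mapQ _ _ u' (hle u'))
  refine Main.hasSk_two_kernel f₀ u₀ ?_ ?_ hD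
  · refine (injective_iff_map_eq_zero f₀).2 fun z hz => ?_
    obtain ⟨x, rfl⟩ := Submodule.Quotient.mk_surjective _ z
    exact (Submodule.Quotient.mk_eq_zero _).2 (hi x ((Submodule.Quotient.mk_eq_zero _).1 hz))
  · intro z
    obtain ⟨y, rfl⟩ := Submodule.Quotient.mk_surjective _ z
    constructor
    · intro hz
      obtain ⟨x, hx⟩ := he y ((Submodule.Quotient.mk_eq_zero _).1 hz)
      exact ⟨Submodule.Quotient.mk x, ((Submodule.Quotient.eq _).2 hx).symm⟩
    · rintro ⟨z, hz⟩
      obtain ⟨x, rfl⟩ := Submodule.Quotient.mk_surjective _ z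
      rw [← hz]
      show Submodule.Quotient.mk (u' (f' x)) = 0
      rw [x2.apply_apply_eq_zero, Submodule.Quotient.mk_zero]

/-- Maps invertible up to an ideal of depth two identify the localizations. -/
theorem exists_equiv [IsNoetherianRing B] (I : Ideal B) {N : ℕ} (hN : N ≠ 0) {M X Y : Type u}
    [AddCommGroup M] [Module B M] [Module.Finite B M] [AddCommGroup X] [Module B X] [Module.Finite B X]
    [AddCommGroup Y] [Module B Y] [Module.Finite B Y] (δ : M →ₗ[B] Y) (η : X →ₗ[B] Y)
    (hδ : QDepth.InvUpTo (I ^ N) δ) (hη : QDepth.InvUpTo (I ^ N) η)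
    (hM : QDepth.Two (I.map (algebraMap B (Localization.AtPrime q))) (LocalizedModule q.primeCompl M))
    (hX : QDepth.Two (I.map (algebraMap B (Localization.AtPrime q))) (LocalizedModule q.primeCompl X))
    (hY : QDepth.Two (I.map (algebraMap B (Localization.AtPrime q))) (LocalizedModule q.primeCompl Y)) :
    Nonempty (LocalizedModule q.primeCompl M ≃ₗ[Localization.AtPrime q] LocalizedModule q.primeCompl X) := by
  haveI : IsNoetherianRing (Localization.AtPrime q) := IsLocalization.isNoetherianRing q.primeCompl _ inferInstance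
  haveI : Module.Finite (Localization.AtPrime q) (LocalizedModule q.primeCompl M) :=
    Module.Finite.of_isLocalizedModule q.primeCompl (Rₚ := Localization.AtPrime q) (LocalizedModule.mkLinearMap _ M)
  haveI : Module.Finite (Localization.AtPrime q) (LocalizedModule q.primeCompl X) :=
    Module.Finite.of_isLocalizedModule q.primeCompl (Rₚ := Localization.AtPrime q) (LocalizedModule.mkLinearMap _ X)
  haveI : Module.Finite (Localization.AtPrime q) (LocalizedModule q.primeCompl Y) :=
    Module.Finite.of_isLocalizedModule q.primeCompl (Rₚ := Localization.AtPrime q) (LocalizedModule.mkLinearMap _ Y)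
  have h1 := invUpTo_localized q _ δ hδ
  have h2 := invUpTo_localized q _ η hη
  rw [Ideal.map_pow] at h1 h2
  exact ⟨LinearEquiv.ofBijective _ (h1.bijective (QDepth.two_pow _ hM N hN) (QDepth.two_pow _ hY N hN).zero) ≪≫ₗ
    (LinearEquiv.ofBijective _ (h2.bijective (QDepth.two_pow _ hX N hN) (QDepth.two_pow _ hY N hN).zero)).symm⟩

/-- Fibre stalks of finite projective modules have the depth of the fibre local ring. -/
theorem two_le_fibLocMod_of_projective {A : Type u} [CommRing A] [Algebra A B] [IsNoetherianRing B] (J₀ : Ideal B)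
    (hd : 2 ≤ idealDepth (J₀.map (algebraMap B (EGA4.FibLocRing A B q))) (EGA4.FibLocRing A B q))
    (P : Type u) [AddCommGroup P] [Module B P] [Module.Finite B P] [Module.Projective B P] :
    2 ≤ idealDepth (J₀.map (algebraMap B (EGA4.FibLocRing A B q))) (EGA4.FibLocMod A B q P) := by
  let L := Localization.AtPrime q
  let D := EGA4.FibLocRing A B q
  haveI : IsNoetherianRing L := IsLocalization.isNoetherianRing q.primeCompl _ inferInstance
  haveI : IsNoetherianRing D := inferInstanceAs (IsNoetherianRing (L ⧸ _))
  haveI : Module.Projective L (LocalizedModule q.primeCompl P) :=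
    Module.Projective.of_equiv (IsLocalizedModule.isBaseChange q.primeCompl L (LocalizedModule.mkLinearMap q.primeCompl P)).equiv
  haveI : Module.Projective D (EGA4.FibLocMod A B q P) :=
    Module.Projective.of_equiv (LinearEquiv.extendScalarsOfSurjective (R := L) Ideal.Quotient.mk_surjective
      ((TensorProduct.quotTensorEquivQuotSMul (LocalizedModule q.primeCompl P) _).restrictScalars L :
        ((L ⧸ (q.comap (algebraMap A B)).map (algebraMap A L)) ⊗[L] LocalizedModule q.primeCompl P) ≃ₗ[L] _))
  haveI : Module.Finite L (LocalizedModule q.primeCompl P) :=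
    Module.Finite.of_isLocalizedModule q.primeCompl (Rₚ := L) (LocalizedModule.mkLinearMap q.primeCompl P)
  haveI : Module.Finite D (EGA4.FibLocMod A B q P) := Module.Finite.of_restrictScalars_finite L D _
  exact QDepth.le_idealDepth_of_isReflexive _ _ (k := 2) le_rfl hd

/-- An `(S₂)` fibre of a module split off a projective one outside `V(J)` has depth two along `V(J)`. -/
theorem two_le_of_hasSk_split {A : Type u} [CommRing A] [Algebra A B] [IsNoetherianRing B] (J₀ : Ideal B)
    (hL : QDepth.Two (J₀.map (algebraMap B (Localization.AtPrime q))) (Localization.AtPrime q))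
    {K E0 : Type u} [AddCommGroup K] [Module B K] [Module.Finite B K] [AddCommGroup E0] [Module B E0]
    [Module.Finite B E0] [Module.Projective B E0]
    (hKL : QDepth.Two (J₀.map (algebraMap B (Localization.AtPrime q))) (LocalizedModule q.primeCompl K))
    (f : K →ₗ[B] E0) (hsplit : ∀ Q : Ideal B, Q.IsPrime → ¬ J₀ ≤ Q → ∃ c, c ∉ Q ∧ ∃ π : E0 →ₗ[B] K, ∀ z, π (f z) = c • z)
    (hd : 2 ≤ idealDepth (J₀.map (algebraMap B (EGA4.FibLocRing A B q))) (EGA4.FibLocRing A B q))
    (hS : LocCoh.HasSk 2 (EGA4.FibLocRing A B q) (EGA4.FibLocMod A B q K)) :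
    2 ≤ idealDepth (J₀.map (algebraMap B (EGA4.FibLocRing A B q))) (EGA4.FibLocMod A B q K) := by
  let W := q.primeCompl
  let L := Localization.AtPrime q
  let D := EGA4.FibLocRing A B q
  haveI : IsNoetherianRing L := IsLocalization.isNoetherianRing W _ inferInstance
  haveI : IsNoetherianRing D := inferInstanceAs (IsNoetherianRing (L ⧸ _))
  haveI : Module.Finite L (LocalizedModule W K) :=
    Module.Finite.of_isLocalizedModule W (Rₚ := L) (LocalizedModule.mkLinearMap W K)
  haveI : Module.Projective L (LocalizedModule W E0) :=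
    Module.Projective.of_equiv (IsLocalizedModule.isBaseChange W L (LocalizedModule.mkLinearMap W E0)).equiv
  haveI : Module.Finite L (LocalizedModule W E0) :=
    Module.Finite.of_isLocalizedModule W (Rₚ := L) (LocalizedModule.mkLinearMap W E0)
  haveI : Module.Finite D (EGA4.FibLocMod A B q K) := Module.Finite.of_restrictScalars_finite L D _
  rcases Main.zero_or_faithful (B := L) (J₀.map (algebraMap B L)) hL hKL (LocalizedModule.map W f) (fun Q hQ => by
    obtain ⟨c, hc, π, hπ⟩ := hsplit (Q.asIdeal.comap (algebraMap B L)) inferInstance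
      (fun hh => hQ (Ideal.map_le_iff_le_comap.mpr hh))
    refine ⟨algebraMap B L c, hc, LocalizedModule.map W π, LinearMap.ext fun z => ?_⟩
    induction z using LocalizedModule.induction_on with
    | _ m t =>
      show LocalizedModule.map W π (LocalizedModule.map W f (LocalizedModule.mk m t)) =
        algebraMap B L c • LocalizedModule.mk m t
      erw [LocalizedModule.map_mk, LocalizedModule.map_mk]
      rw [hπ, algebraMap_smul, LocalizedModule.smul'_mk]) (IsLocalRing.closedPoint L) with hz | hz
  · haveI : Subsingleton (LocalizedModule W K) := subsingleton_of_forall_eq 0 fun x => by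
      obtain ⟨s, hs, hsx⟩ := hz x
      exact (IsLocalRing.notMem_maximalIdeal.1 hs).smul_eq_zero.1 hsx
    rw [Depth.Basic.idealDepth_subsingleton (M := EGA4.FibLocMod A B q K)]
    exact le_top
  · refine Main.two_le_of_hasSk _ hd hS fun P => ?_
    let 𝔭 : Ideal L := (q.comap (algebraMap A B)).map (algebraMap A L)
    let P₀ : PrimeSpectrum L := PrimeSpectrum.comap (Ideal.Quotient.mk 𝔭) P
    have hP₀ : P₀ ∈ Module.support L (LocalizedModule W K ⧸ (𝔭 • (⊤ : Submodule L (LocalizedModule W K)))) := by
      rw [Module.support_quotient]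
      refine ⟨hz _ (le_maximalIdeal P₀.isPrime.ne_top), fun x hx => ?_⟩
      show Ideal.Quotient.mk 𝔭 x ∈ P.asIdeal
      rw [Ideal.Quotient.eq_zero_iff_mem.2 hx]
      exact P.asIdeal.zero_mem
    obtain ⟨m, hm⟩ := Module.mem_support_iff'.1 hP₀
    refine Module.mem_support_iff'.2 ⟨m, fun r hr => ?_⟩
    obtain ⟨r, rfl⟩ := Ideal.Quotient.mk_surjective r
    exact hm r hr

end General

section Coker

variable {R C : Type u} [CommRing R] [IsNoetherianRing R] [IsLocalRing R] [CommRing C] [IsNoetherianRing C]
  [Algebra R C] [Module.Flat R C]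
  {R' C' : Type u} [CommRing R'] [IsNoetherianRing R'] [IsLocalRing R'] [CommRing C'] [IsNoetherianRing C']
  [Algebra R R'] [IsLocalHom (algebraMap R R')] [Algebra C C'] [Algebra R' C'] [Algebra R C']
  [IsScalarTower R C C'] [IsScalarTower R R' C'] [Algebra.IsPushout R C R' C']

/-- An `(S₂)` fibre of the double dual makes the base change of the cokernel flat. -/
theorem coker_of_hasSk (F : Type u) [AddCommGroup F] [Module C F] [Module.Finite C F] (J : Ideal C) {k l : ℕ}
    (g : F →ₗ[C] (Fin k → C)) (h : (Fin k → C) →ₗ[C] (Fin l → C)) (hg : Function.Injective g)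
    (hgh : Function.Exact g h)
    (hGfree : ∀ q : PrimeSpectrum C, ¬ J ≤ q.asIdeal → Module.Free (Localization.AtPrime q.asIdeal)
      (LocalizedModule q.asIdeal.primeCompl ((Fin l → C) ⧸ LinearMap.range h)))
    (n : Ideal C) [n.IsPrime] (hn : n.comap (algebraMap R C) = maximalIdeal R)
    (h0 : 2 ≤ idealDepth (J.map (algebraMap C (Localization.AtPrime n)))
      (Localization.AtPrime n ⧸ ((maximalIdeal R).map (algebraMap R C)).map (algebraMap C (Localization.AtPrime n))))
    (q' : Ideal C') [q'.IsPrime] (hq'n : q'.comap (algebraMap C C') = n)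
    (hq'm : q'.comap (algebraMap R' C') = maximalIdeal R')
    (hSk : LocCoh.HasSk 2 (EGA4.FibLocRing R' C' q')
      (EGA4.FibLocMod R' C' q' (Module.Dual C' (Module.Dual C' (C' ⊗[C] F))))) :
    Module.Flat R' (LocalizedModule q'.primeCompl (C' ⊗[C] ((Fin l → C) ⧸ LinearMap.range h))) := by
  let E0 := Fin k → C
  let E1 := Fin l → C
  let G := E1 ⧸ LinearMap.range h
  let v : E1 →ₗ[C] G := (LinearMap.range h).mkQ
  have hv : Function.Surjective v := Submodule.mkQ_surjective _
  have huv : Function.Exact h v := LinearMap.exact_map_mkQ_range h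
  obtain ⟨N, hN, hgen⟩ := QDepth.exists_genInverse J h v huv hv hGfree
  haveI : Algebra.IsPushout R R' C C' := Algebra.IsPushout.symm inferInstance
  haveI : Module.Flat R' C' :=
    Module.Flat.isBaseChange R R' C C' (Algebra.IsPushout.symm inferInstance : Algebra.IsPushout R R' C C').out
  let W := q'.primeCompl
  let L := Localization.AtPrime q'
  let D := EGA4.FibLocRing R' C' q'
  let J' := J.map (algebraMap C C')
  let JL := J'.map (algebraMap C' L)
  haveI : IsNoetherianRing L := IsLocalization.isNoetherianRing W _ inferInstance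
  haveI : IsNoetherianRing D := inferInstanceAs (IsNoetherianRing (L ⧸ _))
  haveI : Module.Flat R' L := Module.Flat.trans R' C' L
  haveI : IsLocalHom (algebraMap R' L) := ⟨fun x hx => by
    by_contra hxu
    have : algebraMap R' C' x ∈ q' := hq'm.ge hxu
    rw [IsScalarTower.algebraMap_apply R' C' L] at hx
    exact (IsLocalization.AtPrime.isUnit_to_map_iff L q' _).1 hx this⟩
  -- depth two of the local ring
  have hfib := Depth.two_le_quot_baseChange (R' := R') n hn J h0 q' hq'n hq'm
  have hL : QDepth.Two JL L := by
    refine QDepth.two_of_two_le _ (QDepth.le_idealDepth_of_fibre (A := R') JL (n := 2)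
      (Algebra.linearMap L (L ⧸ (q'.comap (algebraMap R' C')).map (algebraMap R' L))) Ideal.Quotient.mk_surjective
      ?_ hfib)
    rw [← hq'm, smul_eq_mul, Ideal.mul_top]
    ext x
    exact Ideal.Quotient.eq_zero_iff_mem
  let u' := h.baseChange C'
  let v' := v.baseChange C'
  let K := LinearMap.ker u'
  let F' := C' ⊗[C] F
  have hv' : Function.Surjective v' := LinearMap.lTensor_surjective C' hv
  have huv' : Function.Exact u' v' := lTensor_exact C' huv hv
  -- the comparison of the base changed module with the kernel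
  let θ : F' →ₗ[C'] K := LinearMap.codRestrict K (g.baseChange C') fun x => by
    rw [LinearMap.mem_ker, ← LinearMap.comp_apply, ← LinearMap.baseChange_comp,
      show h ∘ₗ g = 0 from LinearMap.ext fun y => hgh.apply_apply_eq_zero y, LinearMap.baseChange_zero,
      LinearMap.zero_apply]
  let eF : F ≃ₗ[C] LinearMap.ker h :=
    LinearEquiv.ofInjective g hg ≪≫ₗ LinearEquiv.ofEq _ _ (LinearMap.exact_iff.mp hgh).symm
  have hθ : QDepth.InvUpTo (X := F') (Y := ↥K) (J' ^ N) θ := by
    rw [show J' ^ N = Ideal.span (algebraMap C C' '' (J ^ N : Ideal C)) from (Ideal.map_pow _ _ _).symm]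
    refine QDepth.invUpTo_span _ ?_
    rintro _ ⟨c, hc, rfl⟩
    obtain ⟨w, hw⟩ := hgen c hc
    let π₀ : E0 →ₗ[C] F := eF.symm.toLinearMap ∘ₗ
      LinearMap.codRestrict (LinearMap.ker h) (c • LinearMap.id - w ∘ₗ h) (fun x => by
        rw [LinearMap.mem_ker, LinearMap.sub_apply, map_sub, LinearMap.smul_apply, map_smul, LinearMap.id_apply,
          LinearMap.comp_apply, show h (w (h x)) = c • h x from LinearMap.congr_fun hw x, sub_self])
    have hgπ : g ∘ₗ π₀ = c • LinearMap.id - w ∘ₗ h := LinearMap.ext fun x => by
      show g (eF.symm _) = _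
      exact congrArg Subtype.val (eF.apply_symm_apply
        (LinearMap.codRestrict (LinearMap.ker h) (c • LinearMap.id - w ∘ₗ h) _ x))
    have hπg : π₀ ∘ₗ g = c • LinearMap.id := LinearMap.ext fun x => hg (by
      rw [LinearMap.comp_apply, ← LinearMap.comp_apply g π₀, hgπ, LinearMap.sub_apply, LinearMap.smul_apply,
        LinearMap.id_apply, LinearMap.comp_apply, hgh.apply_apply_eq_zero, map_zero, sub_zero,
        LinearMap.smul_apply, LinearMap.id_apply, map_smul])
    refine ⟨π₀.baseChange C' ∘ₗ K.subtype, fun y => Subtype.ext ?_, fun x => ?_⟩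
    · show (g.baseChange C') ((π₀.baseChange C') y.1) = _
      rw [← LinearMap.comp_apply, ← LinearMap.baseChange_comp, hgπ, LinearMap.baseChange_sub,
        LinearMap.baseChange_smul, LinearMap.baseChange_comp, LinearMap.baseChange_id, LinearMap.sub_apply,
        LinearMap.comp_apply, show u' y.1 = 0 from y.2, map_zero, sub_zero, LinearMap.smul_apply, LinearMap.id_apply,
        SetLike.val_smul, algebraMap_smul]
    · show (π₀.baseChange C') ((g.baseChange C') x) = _
      rw [← LinearMap.comp_apply, ← LinearMap.baseChange_comp, hπg, LinearMap.baseChange_smul,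
        LinearMap.baseChange_id, LinearMap.smul_apply, LinearMap.id_apply, algebraMap_smul]
  -- both sides agree at the point
  haveI : Module.Finite C' K := Module.Finite.of_injective K.subtype Subtype.val_injective
  haveI := finite_dual (B := C') K
  haveI := finite_dual (B := C') (Module.Dual C' K)
  haveI := finite_dual (B := C') F'
  haveI := finite_dual (B := C') (Module.Dual C' F')
  have hKL :=
    two_localized_of_exact q' (M := ↥(LinearMap.ker u')) (LinearMap.ker u').subtype u' Subtype.val_injective (LinearMap.exact_subtype_ker_map u') hL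
  obtain ⟨eq⟩ := exists_equiv q' J' hN (θ.dualMap.dualMap) (Module.Dual.eval C' K)
    (invUpTo_dualMap _ _ (invUpTo_dualMap _ _ hθ)) (QDepth.invUpTo_eval_ker J h N hgen C')
    (two_localized_dual q' (Module.Dual C' F') hL) hKL (two_localized_dual q' (Module.Dual C' K) hL)
  have hS : LocCoh.HasSk 2 D (EGA4.FibLocMod R' C' q' K) := hasSk_fibLocMod_congr q' eq hSk
  -- depths of the fibre
  have hDd : 2 ≤ idealDepth (J'.map (algebraMap C' D)) D := by
    rw [Depth.Basic.idealDepth_eq_map_of_surjective (R := L) (S := D) Ideal.Quotient.mk_surjective,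
      Ideal.map_map, ← IsScalarTower.algebraMap_eq C' L D] at hfib
    exact hfib
  have hGU : ∀ q : PrimeSpectrum C', ¬ J' ≤ q.asIdeal →
      Module.Flat R' (LocalizedModule q.asIdeal.primeCompl (C' ⊗[C] G)) := by
    intro q hq
    let q₀ := PrimeSpectrum.comap (algebraMap C C') q
    haveI := hGfree q₀ fun hh => hq (Ideal.map_le_iff_le_comap.mpr hh)
    let L₀ := Localization.AtPrime q₀.asIdeal
    let L₁ := Localization.AtPrime q.asIdeal
    letI : Algebra L₀ L₁ := (Localization.localRingHom q₀.asIdeal q.asIdeal (algebraMap C C') rfl).toAlgebra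
    haveI : IsScalarTower C L₀ L₁ := IsScalarTower.of_algebraMap_eq fun a => by
      rw [RingHom.algebraMap_toAlgebra]
      exact (IsScalarTower.algebraMap_apply C C' L₁ a).trans
        (Localization.localRingHom_to_map q₀.asIdeal q.asIdeal (algebraMap C C') rfl a).symm
    haveI : Module.Projective L₁ (L₁ ⊗[C] G) := by
      haveI : Module.Projective L₀ (L₀ ⊗[C] G) := Module.Projective.of_equiv
        (IsLocalizedModule.isBaseChange q₀.asIdeal.primeCompl L₀ (LocalizedModule.mkLinearMap q₀.asIdeal.primeCompl G)).equiv.symm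
      exact Module.Projective.of_equiv (TensorProduct.AlgebraTensorModule.cancelBaseChange C L₀ L₁ L₁ G)
    haveI : Module.Projective L₁ (LocalizedModule q.asIdeal.primeCompl (C' ⊗[C] G)) := Module.Projective.of_equiv
      ((TensorProduct.AlgebraTensorModule.cancelBaseChange C C' L₁ L₁ G).symm ≪≫ₗ
        (IsLocalizedModule.isBaseChange q.asIdeal.primeCompl L₁
          (LocalizedModule.mkLinearMap q.asIdeal.primeCompl (C' ⊗[C] G))).equiv)
    haveI : Module.Flat R' L₁ := Module.Flat.trans R' C' L₁
    exact Module.Flat.trans R' L₁ _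
  haveI : Module.Flat R' (C' ⊗[C] E0) := Module.Flat.trans R' C' _
  haveI : Module.Flat R' (C' ⊗[C] E1) := Module.Flat.trans R' C' _
  refine (QDepth.flatAt_coker_iff (A := R') J' (F := ↥(LinearMap.ker u')) (LinearMap.ker u').subtype u' v' Subtype.val_injective
    (LinearMap.exact_subtype_ker_map u') huv' hv' hGU ⟨q', inferInstance⟩ (two_le_fibLocMod_of_projective q' J' hDd _)
    (le_trans one_le_two (two_le_fibLocMod_of_projective q' J' hDd _))).1 ?_
  refine two_le_of_hasSk_split q' J' hL hKL (LinearMap.ker u').subtype (fun Q _ hQ => ?_) hDd hS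
  have hQ' : ¬ J ^ N ≤ Q.comap (algebraMap C C') := fun hh =>
    hQ (Ideal.map_le_iff_le_comap.mpr (Ideal.IsPrime.le_of_pow_le hh))
  obtain ⟨c, hc, hcQ⟩ := SetLike.not_le_iff_exists.mp hQ'
  obtain ⟨w, hw⟩ := hgen c hc
  let c' := algebraMap C C' c
  let w' := w.baseChange C'
  have hw' : u' ∘ₗ w' ∘ₗ u' = c' • u' := by
    rw [← LinearMap.baseChange_comp, ← LinearMap.baseChange_comp, hw, LinearMap.baseChange_smul,
      algebraMap_smul]
  refine ⟨c', hcQ, LinearMap.codRestrict K (c' • LinearMap.id - w' ∘ₗ u') (fun x => by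
    rw [LinearMap.mem_ker, LinearMap.sub_apply, map_sub, LinearMap.smul_apply, map_smul, LinearMap.id_apply,
      LinearMap.comp_apply, show u' (w' (u' x)) = c' • u' x from LinearMap.congr_fun hw' x, sub_self]), fun z => Subtype.ext ?_⟩
  show c' • z.1 - w' (u' z.1) = c' • z.1
  rw [show u' z.1 = 0 from z.2, map_zero, sub_zero]

end Coker

end Groth.Agent.Lib.RG57.RelS2.Point
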